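import Groth.Prelude.Def_DTen2
import Groth.Agent.DCohLib.FunctRes
import Groth.Agent.DCohLib.LeftDer
import Groth.Agent.KFlat.QuasiIso
import Groth.Agent.KFlat.ModuleQuasiIso

/-!
# Functorial K-flat resolutions of complexes of modules over a ring
-/

set_option autoImplicit false
set_option linter.style.haveILetI false

universe u

open CategoryTheory Limits MonoidalCategory
attribute [local instance] HasDerivedCategory.standard

noncomputable section

namespace Groth.Agent.DTenLib

open Groth.Agent.DCohLib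

variable (A : Type u) [CommRing A]

/-- The free cover. -/
abbrev covF : ModuleCat.{u} A ⥤ ModuleCat.{u} A := forget (ModuleCat.{u} A) ⋙ ModuleCat.free A

/-- The free cover map. -/
abbrev covFπ : covF A ⟶ 𝟭 (ModuleCat.{u} A) := (ModuleCat.adj A).counit

instance epi_covFπ (X : ModuleCat.{u} A) : Epi (covπ (covF A) (covFπ A) X) := by
  rw [ModuleCat.epi_iff_surjective]
  intro x
  exact ⟨ModuleCat.freeMk x, ModuleCat.freeDesc_apply _ x⟩

/-- The functorial resolution. -/
def resA : DRing.Cx A ⥤ DRing.Cx A := res (covF A) (covFπ A)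

/-- The map from the resolution. -/
def resAπ : resA A ⟶ 𝟭 (DRing.Cx A) := resπ (covF A) (covFπ A)

variable {A}

instance quasiIso_resAπ (K : DRing.Cx A) : QuasiIso ((resAπ A).app K) :=
  quasiIso_resπ (covF A) (covFπ A) K

theorem flat_covF (X : ModuleCat.{u} A) : Module.Flat A ((covF A).obj X) :=
  inferInstanceAs (Module.Flat A (X →₀ A))

theorem isKFlatFor_resA (K : DRing.Cx A) :
    KFlat.IsKFlatFor (curriedTensor (ModuleCat.{u} A)) ((resA A).obj K) :=
  isKFlatFor_res (covF A) (covFπ A) (KFlat.flatClass A) flat_covF K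

theorem isKFlat_iff (K : DRing.Cx A) :
    DRing.IsKFlat A K ↔ KFlat.IsKFlatFor (curriedTensor (ModuleCat.{u} A)) K :=
  (KFlat.isKFlatFor_iff_tensor A K).symm

theorem isKFlat_resA (K : DRing.Cx A) : DRing.IsKFlat A ((resA A).obj K) :=
  (isKFlat_iff _).2 (isKFlatFor_resA K)

/-- Tensoring on the right with a K-flat complex preserves quasi-isomorphisms. -/
theorem quasiIso_whiskerRight {K K' : DRing.Cx A} (f : K ⟶ K') [QuasiIso f] {L : DRing.Cx A}
    (hL : DRing.IsKFlat A L) : QuasiIso (f ▷ L) :=
  KFlat.quasiIso_totR_map (curriedTensor (ModuleCat.{u} A)) ((isKFlat_iff L).1 hL) f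

/-- A quasi-isomorphism of K-flat complexes stays one after tensoring with any complex. -/
theorem quasiIso_whiskerLeft (K : DRing.Cx A) {L L' : DRing.Cx A} (g : L ⟶ L') [QuasiIso g]
    (hL : DRing.IsKFlat A L) (hL' : DRing.IsKFlat A L') : QuasiIso (K ◁ g) :=
  KFlat.quasiIso_tot_map (curriedTensor (ModuleCat.{u} A)) (KFlat.exists_resolution_flip A)
    ((isKFlat_iff L).1 hL) ((isKFlat_iff L').1 hL') g K

theorem isIso_Q_of_quasiIso {K L : DRing.Cx A} (f : K ⟶ L) (hf : QuasiIso f) :
    IsIso (DerivedCategory.Q.map f) :=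
  Localization.inverts DerivedCategory.Q (DTen.qis A) _
    ((HomologicalComplex.mem_quasiIso_iff _).2 hf)

theorem quasiIso_resA_map {K L : DRing.Cx A} (f : K ⟶ L) (hf : QuasiIso f) :
    QuasiIso ((resA A).map f) := by
  haveI := hf
  haveI : QuasiIso ((resA A).map f ≫ (resAπ A).app L) := by
    rw [(resAπ A).naturality f]
    exact inferInstanceAs (QuasiIso ((resAπ A).app K ≫ f))
  exact quasiIso_of_comp_right _ ((resAπ A).app L)

theorem isIso_tensor₂_map {X Y : DRing.Cx A × DRing.Cx A} (f : X ⟶ Y) (h₁ : QuasiIso f.1)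
    (h₂ : QuasiIso f.2) (hX : DRing.IsKFlat A X.2) (hY : DRing.IsKFlat A Y.2) :
    IsIso ((DTen.tensor₂ A).map f) := by
  haveI := h₁
  haveI := h₂
  haveI h₃ := isIso_Q_of_quasiIso _ (quasiIso_whiskerRight f.1 hX)
  haveI h₄ := isIso_Q_of_quasiIso _ (quasiIso_whiskerLeft Y.1 f.2 hX hY)
  show IsIso (DerivedCategory.Q.map (f.1 ▷ X.2 ≫ Y.1 ◁ f.2))
  rw [Functor.map_comp]
  exact IsIso.comp_isIso' h₃ h₄

variable (A)

/-- The resolution of pairs, adapted to the tensor product. -/
def adapted₂ : Adapted (DTen.qis₂ A) (DTen.tensor₂ A) where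
  P := (resA A).prod (resA A)
  ψ := NatTrans.prod (resAπ A) (resAπ A)
  hψ X := ⟨(HomologicalComplex.mem_quasiIso_iff _).2 (quasiIso_resAπ X.1),
    (HomologicalComplex.mem_quasiIso_iff _).2 (quasiIso_resAπ X.2)⟩
  inverts _ _ f hf := isIso_tensor₂_map _
    (quasiIso_resA_map _ ((HomologicalComplex.mem_quasiIso_iff _).1 hf.1))
    (quasiIso_resA_map _ ((HomologicalComplex.mem_quasiIso_iff _).1 hf.2))
    (isKFlat_resA _) (isKFlat_resA _)
  isIso_map X := isIso_tensor₂_map _ (quasiIso_resAπ ((resA A).obj X.1))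
    (quasiIso_resAπ ((resA A).obj X.2)) (isKFlat_resA _) (isKFlat_resA _)

variable {A}

variable [DTen.HasLTen A]

/-- The counit is invertible when the second complex is K-flat. -/
theorem isIso_ε_right (K L : DRing.Cx A) (hL : DRing.IsKFlat A L) : IsIso ((DTen.ε A).app (K, L)) :=
  (adapted₂ A).isIso_app (DTen.QQ A) (DTen.LTen₂ A) (DTen.ε A) (K, L)
    (isIso_tensor₂_map _ (quasiIso_resAπ K) (quasiIso_resAπ L) (isKFlat_resA L) hL)

/-- A representative by a K-flat complex. -/
def repr (K : Dual.D A) : DRing.Cx A := (resA A).obj (DerivedCategory.Q.objPreimage K)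

theorem isKFlat_repr (K : Dual.D A) : DRing.IsKFlat A (repr K) := isKFlat_resA _

/-- The isomorphism with the representative. -/
def reprIso (K : Dual.D A) : DerivedCategory.Q.obj (repr K) ≅ K :=
  @asIso _ _ _ _ _ (isIso_Q_of_quasiIso _ (quasiIso_resAπ (DerivedCategory.Q.objPreimage K))) ≪≫
    DerivedCategory.Q.objObjPreimageIso K

/-- The symmetry map is an isomorphism. -/
theorem isIso_symm_app (K L : Dual.D A) : IsIso ((DTen.symm A).app (K, L)) := by
  have h : ∀ X : Dual.D A × Dual.D A,
      (DTen.symm A).app (X.2, X.1) ≫ (DTen.symm A).app X = 𝟙 ((DTen.LTen₂ A).obj X) := by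
    intro X
    let P := repr X.1
    let R := repr X.2
    let e : (DTen.QQ A).obj (P, R) ≅ X := Iso.prod (reprIso X.1) (reprIso X.2)
    haveI := isIso_ε_right P R (isKFlat_repr _)
    have h0 : (DTen.symm A).app (DerivedCategory.Q.obj R, DerivedCategory.Q.obj P) ≫
        (DTen.symm A).app (DerivedCategory.Q.obj P, DerivedCategory.Q.obj R) = 𝟙 _ := by
      rw [← cancel_mono ((DTen.ε A).app (P, R))]
      erw [Category.assoc, DTen.symm_fac, ← Category.assoc, DTen.symm_fac, Category.id_comp]
      rw [Category.assoc, ← Functor.map_comp]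
      have hb : (DTen.braidCx P R).hom ≫ (DTen.braidCx R P).hom = 𝟙 _ := by
        refine HomologicalComplex.hom_ext _ _ (fun n =>
          HomologicalComplex.mapBifunctor.hom_ext (fun p q hpq => ?_))
        have hpq' : p + q = n := hpq
        rw [HomologicalComplex.comp_f]
        erw [DTen.ι_braidCx_hom_assoc P R p q n hpq', Category.comp_id]
        simp only [Linear.units_smul_comp, Category.assoc]
        erw [DTen.ι_braidCx_hom R P q p n (by omega)]
        simp only [Linear.comp_units_smul, smul_smul, SymmetricCategory.symmetry_assoc,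
          mul_comm p q, Int.units_mul_self, one_smul]
      rw [hb]
      exact (congrArg ((DTen.ε A).app (P, R) ≫ ·) (DerivedCategory.Q.map_id _)).trans (Category.comp_id _)
    have n1 := (DTen.symm A).naturality ((Iso.prod (reprIso X.2) (reprIso X.1)).hom :
      (DerivedCategory.Q.obj R, DerivedCategory.Q.obj P) ⟶ (X.2, X.1))
    have n2 := (DTen.symm A).naturality (e.hom :
      (DerivedCategory.Q.obj P, DerivedCategory.Q.obj R) ⟶ X)
    rw [← cancel_epi ((DTen.LTen₂ A).map e.hom)]
    refine Eq.trans ?_ (Category.comp_id _).symm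
    erw [← Category.assoc, n1, Category.assoc, n2, ← Category.assoc]
    erw [h0]
    exact Category.id_comp _
  exact ⟨(DTen.symm A).app (L, K), h (L, K), h (K, L)⟩

/-- The counit is invertible when the first complex is K-flat. -/
theorem isIso_ε_left (K L : DRing.Cx A) (hK : DRing.IsKFlat A K) : IsIso ((DTen.ε A).app (K, L)) := by
  haveI := isIso_ε_right L K hK
  haveI := isIso_symm_app (DerivedCategory.Q.obj L) (DerivedCategory.Q.obj K)
  haveI : IsIso ((DTen.ε A).app (K, L) ≫ DerivedCategory.Q.map (DTen.braidCx K L).hom) := by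
    rw [← DTen.symm_fac]
    infer_instance
  exact IsIso.of_isIso_comp_right _ (DerivedCategory.Q.map (DTen.braidCx K L).hom)

theorem kflatComputes : DTen.KFlatComputes A :=
  ⟨fun K L h => h.elim (isIso_ε_left K L) (isIso_ε_right K L)⟩

end Groth.Agent.DTenLib
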