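import Groth.Agent.DTenLib.Base
import Groth.Agent.KFlat.MapTot

/-!
# Extension of scalars preserves K-flatness
-/

set_option autoImplicit false
set_option linter.style.haveILetI false

universe u

open CategoryTheory Limits MonoidalCategory DTen
attribute [local instance] HasDerivedCategory.standard

noncomputable section

namespace Groth.Agent.DTenLib

variable {R A : Type u} [CommRing R] [CommRing A] (φ : R →+* A)

/-- Tensoring with an extended module. -/
abbrev biExt : ModuleCat.{u} A ⥤ ModuleCat.{u} R ⥤ ModuleCat.{u} A :=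
  curriedTensor (ModuleCat.{u} A) ⋙
    (Functor.whiskeringLeft _ _ _).obj (ModuleCat.extendScalars.{u, u, u} φ)

/-- Tensoring with a restricted module. -/
abbrev biRes : ModuleCat.{u} A ⥤ ModuleCat.{u} R ⥤ ModuleCat.{u} R :=
  ModuleCat.restrictScalars.{u} φ ⋙ curriedTensor (ModuleCat.{u} R)

instance additive_biExt : (biExt φ).Additive := inferInstance

instance additive_biExt_obj (M : ModuleCat.{u} A) : ((biExt φ).obj M).Additive :=
  inferInstanceAs (ModuleCat.extendScalars.{u, u, u} φ ⋙ (curriedTensor (ModuleCat.{u} A)).obj M).Additive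

instance additive_biRes : (biRes φ).Additive := inferInstance

instance additive_biRes_obj (M : ModuleCat.{u} A) : ((biRes φ).obj M).Additive :=
  inferInstanceAs ((curriedTensor (ModuleCat.{u} R)).obj ((ModuleCat.restrictScalars.{u} φ).obj M)).Additive

/-- Cancelling a base change. -/
def baseCancelIso (M : ModuleCat.{u} A) (N : ModuleCat.{u} R) :
    (ModuleCat.restrictScalars.{u} φ).obj (M ⊗ (ModuleCat.extendScalars.{u, u, u} φ).obj N) ≅
      (ModuleCat.restrictScalars.{u} φ).obj M ⊗ N :=
  letI : Algebra R A := φ.toAlgebra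
  letI : Module R M := Module.compHom M φ
  haveI : IsScalarTower R A M := ⟨fun r a m => by
    show (φ r * a) • m = φ r • a • m
    rw [mul_smul]⟩
  ((TensorProduct.AlgebraTensorModule.cancelBaseChange R A A M N).restrictScalars R :
    ((ModuleCat.restrictScalars.{u} φ).obj (M ⊗ (ModuleCat.extendScalars.{u, u, u} φ).obj N)) ≃ₗ[R]
      ((ModuleCat.restrictScalars.{u} φ).obj M ⊗ N : ModuleCat.{u} R)).toModuleIso

/-- Cancelling a base change, as an isomorphism of bifunctors. -/
def cancelBiIso :
    biExt φ ⋙ (Functor.whiskeringRight _ _ _).obj (ModuleCat.restrictScalars.{u} φ) ≅ biRes φ :=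
  NatIso.ofComponents
    (fun M => NatIso.ofComponents (fun N => baseCancelIso φ M N) fun {N N'} g => by
      refine ModuleCat.hom_ext (LinearMap.ext fun x => ?_)
      refine TensorProduct.induction_on x ?_ (fun m y => ?_) (fun a b ha hb => ?_)
      · exact (map_zero _).trans (map_zero _).symm
      · refine TensorProduct.induction_on y ?_ (fun a n => ?_) (fun a b ha hb => ?_)
        · erw [TensorProduct.tmul_zero, map_zero]
        · rfl
        · erw [TensorProduct.tmul_add, map_add, map_add, ha, hb]
      · exact (map_add _ _ _).trans ((congrArg₂ (· + ·) ha hb).trans (map_add _ _ _).symm))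
    fun {M M'} f => by
      ext N : 2
      refine ModuleCat.hom_ext (LinearMap.ext fun x => ?_)
      refine TensorProduct.induction_on x ?_ (fun m y => ?_) (fun a b ha hb => ?_)
      · exact (map_zero _).trans (map_zero _).symm
      · refine TensorProduct.induction_on y ?_ (fun a n => ?_) (fun a b ha hb => ?_)
        · erw [TensorProduct.tmul_zero, map_zero]
        · exact congrArg (fun z : (ModuleCat.restrictScalars.{u} φ).obj M' => z ⊗ₜ[R] n) (f.hom.map_smul a m).symm
        · erw [TensorProduct.tmul_add, map_add, map_add, ha, hb]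
      · exact (map_add _ _ _).trans ((congrArg₂ (· + ·) ha hb).trans (map_add _ _ _).symm)

theorem isKFlat_extCx {K : DRing.Cx R} (hK : DRing.IsKFlat R K) :
    DRing.IsKFlat A ((extCx φ).obj K) := by
  rw [isKFlat_iff]
  intro L hL n
  let Lr := (resCx φ).obj L
  have hLr : Lr.Acyclic := fun i => by
    rw [HomologicalComplex.exactAt_iff]
    exact ((L.exactAt_iff i).1 (hL i)).map (ModuleCat.restrictScalars.{u} φ)
  have h1 := ((isKFlat_iff K).1 hK Lr hLr n).of_iso (KFlat.mapTotIso (cancelBiIso φ) L K).symm
  rw [HomologicalComplex.exactAt_iff] at h1 ⊢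
  exact (ShortComplex.exact_map_iff_of_faithful _ (ModuleCat.restrictScalars.{u} φ)).1 h1

end Groth.Agent.DTenLib
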