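import Groth.Agent.DTenLib.Res
import Groth.Prelude.Def_DTen4
import Mathlib.CategoryTheory.Functor.Derived.Adjunction
import Mathlib.CategoryTheory.Functor.Derived.PointwiseRightDerived

/-!
# Derived base change is computed by K-flat complexes
-/

set_option autoImplicit false
set_option linter.style.haveILetI false

universe u

open CategoryTheory Limits MonoidalCategory DTen
attribute [local instance] HasDerivedCategory.standard

noncomputable section

namespace Groth.Agent.DTenLib

open Groth.Agent.DCohLib

section Single

variable {A : Type u} [CommRing A]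

/-- Tensoring with a module placed in degree zero, on the second variable. -/
def singleTotRIso (M : ModuleCat.{u} A) :
    (tensorLeft M).mapHomologicalComplex (ComplexShape.up ℤ) ≅
      KFlat.totR (curriedTensor (ModuleCat.{u} A)).flip ((HomologicalComplex.single _ (ComplexShape.up ℤ) 0).obj M) :=
  NatIso.ofComponents
    (fun L => HomologicalComplex.Hom.isoOfComponents
      (fun n => @asIso _ _ _ _ (KFlat.singleι (curriedTensor (ModuleCat.{u} A)).flip L 0 M n n (add_zero n))
        (KFlat.isIso_singleι (curriedTensor (ModuleCat.{u} A)).flip L 0 M n n (add_zero n)))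
      (fun i j hij => KFlat.singleι_d (curriedTensor (ModuleCat.{u} A)).flip L 0 M i j i j _ _ hij))
    fun {L L'} g => by
      ext n : 1
      show M ◁ g.f n ≫ KFlat.singleι (curriedTensor (ModuleCat.{u} A)).flip L' 0 M n n (add_zero n) =
        KFlat.singleι (curriedTensor (ModuleCat.{u} A)).flip L 0 M n n (add_zero n) ≫ _
      simp only [KFlat.singleι, Category.assoc]
      erw [HomologicalComplex.ι_mapBifunctorMap]
      simp only [HomologicalComplex.id_f, CategoryTheory.Functor.map_id, Category.id_comp]
      exact (Category.assoc _ _ _).symm.trans ((congrArg (· ≫ _) (whisker_exchange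
        (HomologicalComplex.singleObjXSelf (ComplexShape.up ℤ) 0 M).inv (g.f n))).trans (Category.assoc _ _ _))

theorem quasiIso_tensorLeft_map (M : ModuleCat.{u} A) {L L' : DRing.Cx A} (f : L ⟶ L') (hf : QuasiIso f)
    (hL : DRing.IsKFlat A L) (hL' : DRing.IsKFlat A L') :
    QuasiIso (((tensorLeft M).mapHomologicalComplex (ComplexShape.up ℤ)).map f) := by
  haveI := hf
  let S := (HomologicalComplex.single (ModuleCat.{u} A) (ComplexShape.up ℤ) 0).obj M
  let e := singleTotRIso M ≪≫ (KFlat.totRIso (curriedTensor (ModuleCat.{u} A)).flip S).symm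
  haveI : QuasiIso ((KFlat.tot (curriedTensor (ModuleCat.{u} A)).flip.flip S).map f) :=
    quasiIso_whiskerLeft S f hL hL'
  exact (quasiIso_iff_of_arrow_mk_iso _ _ (((Functor.mapArrowFunctor _ _).mapIso e).app (Arrow.mk f))).2 ‹_›

end Single

variable {R A : Type u} [CommRing R] [CommRing A] (φ : R →+* A)

/-- The ring of coefficients as a module over the smaller ring. -/
abbrev baseMod : ModuleCat.{u} R := (ModuleCat.restrictScalars.{u} φ).obj (ModuleCat.of A A)

/-- Extension then restriction of scalars is a tensor product. -/
def extResIso :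
    ModuleCat.extendScalars.{u, u, u} φ ⋙ ModuleCat.restrictScalars.{u} φ ≅ tensorLeft (baseMod φ) :=
  NatIso.ofComponents
    (fun M =>
      (({ toFun := id, invFun := id, map_add' := fun _ _ => rfl,
          map_smul' := fun r x => by
            refine TensorProduct.induction_on x ?_ (fun a m => ?_) (fun x y hx hy => ?_)
            · exact (smul_zero _).trans (smul_zero _).symm
            · rfl
            · exact (smul_add _ x y).trans ((congrArg₂ (· + ·) hx hy).trans (smul_add _ x y).symm)
          left_inv := fun _ => rfl, right_inv := fun _ => rfl } :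
        ((ModuleCat.restrictScalars.{u} φ).obj ((ModuleCat.extendScalars.{u, u, u} φ).obj M)) ≃ₗ[R]
          ((tensorLeft (baseMod φ)).obj M))).toModuleIso)
    fun {M N} g => ModuleCat.hom_ext (LinearMap.ext fun _ => rfl)

theorem quasiIso_extCx_map {K L : DRing.Cx R} (f : K ⟶ L) (hf : QuasiIso f)
    (hK : DRing.IsKFlat R K) (hL : DRing.IsKFlat R L) : QuasiIso ((extCx φ).map f) := by
  rw [← HomologicalComplex.quasiIso_map_iff_of_preservesHomology _ (ModuleCat.restrictScalars.{u} φ)]
  exact (quasiIso_iff_of_arrow_mk_iso _ _ (((Functor.mapArrowFunctor _ _).mapIso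
    (NatIso.mapHomologicalComplex (extResIso φ) (ComplexShape.up ℤ))).app (Arrow.mk f))).2
      (quasiIso_tensorLeft_map (baseMod φ) f hf hK hL)

/-- The resolution, adapted to extension of scalars. -/
def adaptedExt : Adapted (qis R) (extCx φ ⋙ DerivedCategory.Q) where
  P := resA R
  ψ := resAπ R
  hψ X := (HomologicalComplex.mem_quasiIso_iff _).2 (quasiIso_resAπ X)
  inverts _ _ f hf := isIso_Q_of_quasiIso _ (quasiIso_extCx_map φ _
    (quasiIso_resA_map _ ((HomologicalComplex.mem_quasiIso_iff _).1 hf)) (isKFlat_resA _) (isKFlat_resA _))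
  isIso_map X := isIso_Q_of_quasiIso _ (quasiIso_extCx_map φ _ (quasiIso_resAπ _)
    (isKFlat_resA _) (isKFlat_resA _))

/-- Extension of scalars is left adjoint to restriction, on complexes. -/
def extResAdjCx : extCx φ ⊣ resCx φ :=
  Adjunction.mkOfUnitCounit
    { unit := unitCx φ
      counit :=
        { app := fun K =>
            { f := fun i => (ModuleCat.extendRestrictScalarsAdj.{u, u, u} φ).counit.app (K.X i)
              comm' := fun i j _ =>
                ((ModuleCat.extendRestrictScalarsAdj.{u, u, u} φ).counit.naturality (K.d i j)).symm }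
          naturality := fun K K' f => HomologicalComplex.hom_ext _ _ fun i =>
            (ModuleCat.extendRestrictScalarsAdj.{u, u, u} φ).counit.naturality (f.f i) }
      left_triangle := by
        ext K n : 3
        exact (congrArg (_ ≫ ·) (Category.id_comp _)).trans
          ((ModuleCat.extendRestrictScalarsAdj.{u, u, u} φ).left_triangle_components (K.X n))
      right_triangle := by
        ext K n : 3
        exact (congrArg (_ ≫ ·) (Category.id_comp _)).trans
          ((ModuleCat.extendRestrictScalarsAdj.{u, u, u} φ).right_triangle_components (K.X n)) }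

/-- The derived base change computed by resolutions. -/
def baseFun : Dual.D R ⥤ Dual.D A := (adaptedExt φ).lder DerivedCategory.Q

/-- Its counit. -/
def baseα : DerivedCategory.Q ⋙ baseFun φ ⟶ extCx φ ⋙ DerivedCategory.Q :=
  (adaptedExt φ).counit DerivedCategory.Q

theorem isIso_baseα_app (K : DRing.Cx R) (hK : DRing.IsKFlat R K) : IsIso ((baseα φ).app K) :=
  (adaptedExt φ).isIso_counit_app DerivedCategory.Q K
    (isIso_Q_of_quasiIso _ (quasiIso_extCx_map φ _ (quasiIso_resAπ K) (isKFlat_resA K) hK))

instance isLeftDerived_baseFun : (baseFun φ).IsLeftDerivedFunctor (baseα φ) (qis R) :=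
  ⟨(adaptedExt φ).isRightKanExtension DerivedCategory.Q⟩

instance isRightDerived_restrictD :
    (DRing.restrictD φ).IsRightDerivedFunctor (resFactors φ).inv (qis A) :=
  Functor.isRightDerivedFunctor_of_inverts (qis A) (DRing.restrictD φ) (resFactors φ)

instance isLeftDerived_comp :
    (baseFun φ ⋙ DRing.restrictD φ).IsLeftDerivedFunctor
      ((Functor.associator _ _ _).inv ≫ Functor.whiskerRight (baseα φ) (DRing.restrictD φ)) (qis R) := by
  let R' : Adapted (qis R) ((extCx φ ⋙ DerivedCategory.Q) ⋙ DRing.restrictD φ) :=
    { P := (adaptedExt φ).P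
      ψ := (adaptedExt φ).ψ
      hψ := (adaptedExt φ).hψ
      inverts := fun X Y f hf => by
        haveI := (adaptedExt φ).inverts f hf
        exact inferInstanceAs (IsIso ((DRing.restrictD φ).map
          (((adaptedExt φ).P ⋙ extCx φ ⋙ DerivedCategory.Q).map f)))
      isIso_map := fun X => by
        haveI := (adaptedExt φ).isIso_map X
        exact inferInstanceAs (IsIso ((DRing.restrictD φ).map
          ((extCx φ ⋙ DerivedCategory.Q).map ((adaptedExt φ).ψ.app ((adaptedExt φ).P.obj X))))) }
  refine R'.isLeftDerivedFunctor DerivedCategory.Q _ _ fun X => ?_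
  haveI := isIso_baseα_app φ ((resA R).obj X) (isKFlat_resA X)
  show IsIso (𝟙 _ ≫ (DRing.restrictD φ).map ((baseα φ).app ((resA R).obj X)))
  exact IsIso.comp_isIso' inferInstance inferInstance

instance isRightDerived_comp :
    (DRing.restrictD φ ⋙ baseFun φ).IsRightDerivedFunctor
      (Functor.whiskerRight (resFactors φ).inv (baseFun φ) ≫ (Functor.associator _ _ _).hom) (qis A) :=
  Functor.isRightDerivedFunctor_of_inverts (qis A) _
    ((Functor.associator _ _ _).symm ≪≫ Functor.isoWhiskerRight (resFactors φ) (baseFun φ))

/-- The adjunction of the derived base change with restriction. -/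
def baseFunAdj : baseFun φ ⊣ DRing.restrictD φ :=
  (extResAdjCx φ).derived (qis R) (qis A) (baseα φ) (resFactors φ).inv

theorem baseFunAdj_fac (K : DRing.Cx R) :
    (baseFunAdj φ).unit.app (DerivedCategory.Q.obj K) ≫ (DRing.restrictD φ).map ((baseα φ).app K) =
      DerivedCategory.Q.map ((unitCx φ).app K) ≫ (resFactors φ).inv.app ((extCx φ).obj K) :=
  (extResAdjCx φ).derivedη_fac_app (qis R) (baseα φ) (resFactors φ).inv K

theorem isIso_baseCmp_app [HasLBase φ] (K : DRing.Cx R) (hK : DRing.IsKFlat R K) :
    IsIso ((baseCmp φ).app K) := by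
  let e := (baseAdj φ).leftAdjointUniq (baseFunAdj φ)
  haveI := isIso_baseα_app φ K hK
  have h : (baseCmp φ).app K = e.hom.app _ ≫ (baseα φ).app K := by
    apply ((baseAdj φ).homEquiv _ _).injective
    rw [Adjunction.homEquiv_unit, Adjunction.homEquiv_unit, Functor.map_comp,
      Adjunction.unit_leftAdjointUniq_hom_app_assoc]
    exact (baseCmp_fac φ K).trans (baseFunAdj_fac φ K).symm
  rw [h]
  exact IsIso.comp_isIso' inferInstance ‹_›

end Groth.Agent.DTenLib
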