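import Groth.Agent.DTenLib.Res

/-!
# The associativity legs of the derived tensor product
-/

set_option autoImplicit false
set_option linter.style.haveILetI false

universe u

open CategoryTheory Limits MonoidalCategory
attribute [local instance] HasDerivedCategory.standard

noncomputable section

namespace Groth.Agent.DTenLib

open Groth.Agent.DCohLib

variable {A : Type u} [CommRing A]

theorem isKFlat_tensor {K L : DRing.Cx A} (hK : DRing.IsKFlat A K) (hL : DRing.IsKFlat A L) :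
    DRing.IsKFlat A (K ⊗ L) := fun M hM i =>
  (hL (M ⊗ K) (hK M hM) i).of_iso
    ((HomologicalComplex.homologyFunctor (ModuleCat.{u} A) (ComplexShape.up ℤ) i).mapIso (α_ M K L).symm)

theorem quasiIso_tensorT_map {X Y : DRing.Cx A × DRing.Cx A} (f : X ⟶ Y) (h₁ : QuasiIso f.1)
    (h₂ : QuasiIso f.2) (hX : DRing.IsKFlat A X.2) (hY : DRing.IsKFlat A Y.2) :
    QuasiIso ((DTen.tensorT A).map f) := by
  haveI := h₁
  haveI := h₂
  haveI := quasiIso_whiskerRight f.1 hX
  haveI := quasiIso_whiskerLeft Y.1 f.2 hX hY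
  exact quasiIso_comp (f.1 ▷ X.2) (Y.1 ◁ f.2)

theorem isIso_tensor₃_map {X Y : DRing.Cx A × (DRing.Cx A × DRing.Cx A)} (f : X ⟶ Y)
    (h₁ : QuasiIso f.1) (h₂ : QuasiIso f.2.1) (h₃ : QuasiIso f.2.2)
    (hX₂ : DRing.IsKFlat A X.2.1) (hX₃ : DRing.IsKFlat A X.2.2)
    (hY₂ : DRing.IsKFlat A Y.2.1) (hY₃ : DRing.IsKFlat A Y.2.2) :
    IsIso ((DTen.tensor₃ A).map f) :=
  isIso_Q_of_quasiIso _ (quasiIso_tensorT_map (((𝟭 (DRing.Cx A)).prod (DTen.tensorT A)).map f) h₁
    (quasiIso_tensorT_map f.2 h₂ h₃ hX₃ hY₃) (isKFlat_tensor hX₂ hX₃) (isKFlat_tensor hY₂ hY₃))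

variable (A)

/-- The resolution of triples, adapted to the triple tensor product. -/
def adapted₃ : Adapted (DTen.qis₃ A) (DTen.tensor₃ A) where
  P := (resA A).prod ((resA A).prod (resA A))
  ψ := NatTrans.prod (resAπ A) (NatTrans.prod (resAπ A) (resAπ A))
  hψ X := ⟨(HomologicalComplex.mem_quasiIso_iff _).2 (quasiIso_resAπ X.1),
    (HomologicalComplex.mem_quasiIso_iff _).2 (quasiIso_resAπ X.2.1),
    (HomologicalComplex.mem_quasiIso_iff _).2 (quasiIso_resAπ X.2.2)⟩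
  inverts _ _ f hf := isIso_tensor₃_map _
    (quasiIso_resA_map _ ((HomologicalComplex.mem_quasiIso_iff _).1 hf.1))
    (quasiIso_resA_map _ ((HomologicalComplex.mem_quasiIso_iff _).1 hf.2.1))
    (quasiIso_resA_map _ ((HomologicalComplex.mem_quasiIso_iff _).1 hf.2.2))
    (isKFlat_resA _) (isKFlat_resA _) (isKFlat_resA _) (isKFlat_resA _)
  isIso_map X := isIso_tensor₃_map _ (quasiIso_resAπ ((resA A).obj X.1))
    (quasiIso_resAπ ((resA A).obj X.2.1)) (quasiIso_resAπ ((resA A).obj X.2.2))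
    (isKFlat_resA _) (isKFlat_resA _) (isKFlat_resA _) (isKFlat_resA _)

variable {A}

variable [DTen.HasLTen₃ A]

theorem isIso_ε₃ (K L M : DRing.Cx A) (hL : DRing.IsKFlat A L) (hM : DRing.IsKFlat A M) :
    IsIso ((DTen.ε₃ A).app (K, (L, M))) :=
  (adapted₃ A).isIso_app (DTen.QQQ A) (DTen.LTen₃ A) (DTen.ε₃ A) (K, (L, M))
    (isIso_tensor₃_map _ (quasiIso_resAπ K) (quasiIso_resAπ L) (quasiIso_resAπ M)
      (isKFlat_resA L) (isKFlat_resA M) hL hM)

variable [DTen.HasLTen A]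

theorem isIso_map_prodMk {a a' b b' : Dual.D A} (f : a ⟶ a') (g : b ⟶ b') [IsIso f] [IsIso g] :
    IsIso ((DTen.LTen₂ A).map (Prod.mkHom f g)) := by
  haveI : IsIso (Prod.mkHom f g) := (Iso.prod (asIso f) (asIso g)).isIso_hom
  infer_instance

theorem isIso_βR (K L M : DRing.Cx A) (hL : DRing.IsKFlat A L) (hM : DRing.IsKFlat A M) :
    IsIso ((DTen.βR A).app (K, (L, M))) := by
  haveI := isIso_ε_right L M hM
  haveI := isIso_ε_right K (L ⊗ M) (isKFlat_tensor hL hM)
  haveI := isIso_map_prodMk (𝟙 (DerivedCategory.Q.obj K)) ((DTen.ε A).app (L, M))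
  exact IsIso.comp_isIso' (isIso_map_prodMk (𝟙 _) ((DTen.ε A).app (L, M)))
    (isIso_ε_right K (L ⊗ M) (isKFlat_tensor hL hM))

theorem isIso_βL (K L M : DRing.Cx A) (hL : DRing.IsKFlat A L) (hM : DRing.IsKFlat A M) :
    IsIso ((DTen.βL A).app (K, (L, M))) := by
  haveI := isIso_ε_right K L hL
  exact IsIso.comp_isIso' (isIso_map_prodMk ((DTen.ε A).app (K, L)) (𝟙 _))
    (IsIso.comp_isIso' (isIso_ε_right (K ⊗ L) M hM) inferInstance)

theorem isIso_assocR_app (a b c : Dual.D A) : IsIso ((DTen.assocR A).app (a, (b, c))) := by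
  let X : DRing.Cx A × (DRing.Cx A × DRing.Cx A) := (repr a, (repr b, repr c))
  let e : (DTen.QQQ A).obj X ≅ (a, (b, c)) :=
    Iso.prod (reprIso a) (Iso.prod (reprIso b) (reprIso c))
  refine (NatTrans.isIso_app_iff_of_iso _ e).1 ?_
  haveI := isIso_ε₃ (repr a) (repr b) (repr c) (isKFlat_repr _) (isKFlat_repr _)
  haveI := isIso_βR (repr a) (repr b) (repr c) (isKFlat_repr _) (isKFlat_repr _)
  exact IsIso.of_isIso_fac_right (DTen.assocR_fac A X)

theorem isIso_assocL_app (a b c : Dual.D A) : IsIso ((DTen.assocL A).app (a, (b, c))) := by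
  let X : DRing.Cx A × (DRing.Cx A × DRing.Cx A) := (repr a, (repr b, repr c))
  let e : (DTen.QQQ A).obj X ≅ (a, (b, c)) :=
    Iso.prod (reprIso a) (Iso.prod (reprIso b) (reprIso c))
  refine (NatTrans.isIso_app_iff_of_iso _ e).1 ?_
  haveI := isIso_ε₃ (repr a) (repr b) (repr c) (isKFlat_repr _) (isKFlat_repr _)
  haveI := isIso_βL (repr a) (repr b) (repr c) (isKFlat_repr _) (isKFlat_repr _)
  exact IsIso.of_isIso_fac_right (DTen.assocL_fac A X)

end Groth.Agent.DTenLib
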