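import Groth.Prelude.Def_DTen3

/-!
# Formal properties of the closed structure of the derived category
-/

set_option autoImplicit false
set_option linter.style.haveILetI false

universe u

open CategoryTheory Limits MonoidalCategory DTen
attribute [local instance] HasDerivedCategory.standard

noncomputable section

namespace Groth.Agent.DTenLib

variable {A : Type u} [CommRing A] [HasLTen A]

/-- The derived tensor product of two maps. -/
abbrev tmap {a a' b b' : Dual.D A} (f : a ⟶ a') (g : b ⟶ b') :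
    (LTen₂ A).obj (a, b) ⟶ (LTen₂ A).obj (a', b') := (LTen₂ A).map (Prod.mkHom f g)

theorem tmap_comp {a a' a'' b b' b'' : Dual.D A} (f : a ⟶ a') (f' : a' ⟶ a'') (g : b ⟶ b')
    (g' : b' ⟶ b'') : tmap f g ≫ tmap f' g' = tmap (f ≫ f') (g ≫ g') := by
  rw [← Functor.map_comp]; rfl

theorem tmap_id (a b : Dual.D A) : tmap (𝟙 a) (𝟙 b) = 𝟙 _ := (LTen₂ A).map_id _

variable [HasLTen₃ A] [IsSymMonoidal A]

theorem associator_naturality {a a' b b' c c' : Dual.D A} (f : a ⟶ a') (g : b ⟶ b') (h : c ⟶ c') :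
    tmap (tmap f g) h ≫ (associator a' b' c').hom =
      (associator a b c).hom ≫ tmap f (tmap g h) := by
  have n1 := (assocL A).naturality (Prod.mkHom f (Prod.mkHom g h))
  have n2 := (assocR A).naturality (Prod.mkHom f (Prod.mkHom g h))
  rw [← cancel_mono ((assocR A).app (a', (b', c')))]
  rw [Category.assoc, Category.assoc, associator_hom_assocR]
  exact n1.trans ((congrArg (· ≫ _) (associator_hom_assocR a b c).symm).trans
    ((Category.assoc _ _ _).trans (congrArg ((associator a b c).hom ≫ ·) n2.symm)))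

variable [HasRHom A]

theorem homEquiv_comp (L : Dual.D A) {X Y M : Dual.D A} (f : X ⟶ Y)
    (g : (LTen₂ A).obj (Y, L) ⟶ M) :
    f ≫ rhomHomEquiv Y L M g = rhomHomEquiv X L M (tmap f (𝟙 L) ≫ g) :=
  ((rhomAdj A L).homEquiv_naturality_left f g).symm

/-- A map is invertible if composing with it is bijective. -/
theorem isIso_of_bijective {C : Type*} [Category C] {Y Z : C} (f : Y ⟶ Z)
    (h : ∀ X, Function.Bijective fun g : X ⟶ Y => g ≫ f) : IsIso f := by
  obtain ⟨g, hg⟩ := (h Z).2 (𝟙 Z)
  refine ⟨g, (h Y).1 ?_, hg⟩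
  show (f ≫ g) ≫ f = 𝟙 Y ≫ f
  rw [Category.assoc, show g ≫ f = 𝟙 Z from hg]
  simp

theorem isIso_curryHom (K L M : Dual.D A) : IsIso (curryHom K L M) := by
  refine isIso_of_bijective _ fun X => ?_
  let e := (rhomHomEquiv X ((LTen₂ A).obj (K, L)) M).symm.trans
    ((Iso.homCongr (associator X K L).symm (Iso.refl M)).trans
      ((rhomHomEquiv ((LTen₂ A).obj (X, K)) L M).trans (rhomHomEquiv X K ((RHomR A L).obj M))))
  have he : (fun g : X ⟶ (RHomR A ((LTen₂ A).obj (K, L))).obj M => g ≫ curryHom K L M) = ⇑e := by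
    funext g
    rw [curryHom, homEquiv_comp, homEquiv_comp]
    show _ = rhomHomEquiv X K _ (rhomHomEquiv _ L M ((associator X K L).hom ≫
      (rhomHomEquiv X ((LTen₂ A).obj (K, L)) M).symm g ≫ 𝟙 M))
    congr 2
    rw [Category.comp_id, (rhomAdj A ((LTen₂ A).obj (K, L))).homEquiv_counit, curryHomAux]
    refine Eq.trans ?_ (Category.assoc _ _ _)
    refine (Category.assoc _ _ _).symm.trans (congrArg (· ≫ ev _ M) ?_)
    rw [associator_naturality, tmap_id]
    rfl
  rw [he]
  exact e.bijective

end Groth.Agent.DTenLib
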