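import Groth.Agent.DTenLib.Res
import Groth.Agent.DTenLib.Closed

/-!
# Shifts of the unit are invertible
-/

set_option autoImplicit false
set_option linter.style.haveILetI false

universe u

open CategoryTheory Limits MonoidalCategory DTen
attribute [local instance] HasDerivedCategory.standard

noncomputable section

namespace Groth.Agent.DTenLib

variable {A : Type u} [CommRing A]

theorem isKFlat_unitCx : DRing.IsKFlat A (𝟙_ (DRing.Cx A)) := fun M hM i =>
  (hM i).of_iso ((HomologicalComplex.homologyFunctor (ModuleCat.{u} A) (ComplexShape.up ℤ) i).mapIso (ρ_ M))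

theorem isKFlat_unitCx_shift (k : ℤ) : DRing.IsKFlat A ((𝟙_ (DRing.Cx A))⟦k⟧) :=
  (isKFlat_iff _).2 (KFlat.isKFlatFor_shift (curriedTensor (ModuleCat.{u} A)) ((isKFlat_iff _).1 isKFlat_unitCx) k)

/-- Shifts of the unit complex are inverse to each other. -/
def shiftUnitCxIso (k k' : ℤ) (h : k + k' = 0) :
    ((𝟙_ (DRing.Cx A))⟦k⟧) ⊗ ((𝟙_ (DRing.Cx A))⟦k'⟧) ≅ 𝟙_ (DRing.Cx A) :=
  CochainComplex.mapBifunctorShift₁Iso (𝟙_ (DRing.Cx A)) ((𝟙_ (DRing.Cx A))⟦k'⟧)
      (curriedTensor (ModuleCat.{u} A)) k ≪≫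
    (CategoryTheory.shiftFunctor (DRing.Cx A) k).mapIso (λ_ ((𝟙_ (DRing.Cx A))⟦k'⟧)) ≪≫
    (shiftFunctorCompIsoId (DRing.Cx A) k' k (by omega)).app _

variable [HasLTen A]

theorem nonempty_shift_unit_tensor (k k' : ℤ) (h : k + k' = 0) :
    Nonempty ((LTen₂ A).obj ((unit A)⟦k⟧, (unit A)⟦k'⟧) ≅ unit A) := by
  haveI := isIso_ε_right ((𝟙_ (DRing.Cx A))⟦k⟧) ((𝟙_ (DRing.Cx A))⟦k'⟧) (isKFlat_unitCx_shift k')
  exact ⟨(LTen₂ A).mapIso (Iso.prod ((DerivedCategory.Q.commShiftIso k).app _).symm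
      ((DerivedCategory.Q.commShiftIso k').app _).symm) ≪≫
    asIso ((ε A).app ((𝟙_ (DRing.Cx A))⟦k⟧, (𝟙_ (DRing.Cx A))⟦k'⟧)) ≪≫
    DerivedCategory.Q.mapIso (shiftUnitCxIso k k' h)⟩

variable [HasLTen₃ A] [IsSymMonoidal A]

theorem tmap_unitL {X Y : Dual.D A} (g : X ⟶ Y) :
    tmap (𝟙 (unit A)) g ≫ (unitL A).app Y = (unitL A).app X ≫ g :=
  (unitL A).naturality g

/-- Tensoring with inverse objects. -/
def cancelIso {K K' : Dual.D A} (i : (LTen₂ A).obj (K, K') ≅ unit A) :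
    (LTen A).obj K' ⋙ (LTen A).obj K ≅ 𝟭 (Dual.D A) :=
  NatIso.ofComponents
    (fun X => (associator K K' X).symm ≪≫ (LTen₂ A).mapIso (Iso.prod i (Iso.refl X)) ≪≫ leftUnitor X)
    (fun {X Y} g => by
      show tmap (𝟙 K) (tmap (𝟙 K') g) ≫ (associator K K' Y).inv ≫ tmap i.hom (𝟙 Y) ≫ (unitL A).app Y =
        ((associator K K' X).inv ≫ tmap i.hom (𝟙 X) ≫ (unitL A).app X) ≫ g
      have h : tmap (𝟙 K) (tmap (𝟙 K') g) ≫ (associator K K' Y).inv =
          (associator K K' X).inv ≫ tmap (tmap (𝟙 K) (𝟙 K')) g := by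
        rw [Iso.comp_inv_eq, Category.assoc, associator_naturality, Iso.inv_hom_id_assoc]
      rw [reassoc_of% h, tmap_id]
      refine Eq.trans ?_ (Category.assoc _ _ _).symm
      refine congrArg ((associator K K' X).inv ≫ ·) ?_
      rw [← Category.assoc, tmap_comp, Category.id_comp, Category.comp_id, Category.assoc, ← tmap_unitL,
        ← Category.assoc, tmap_comp, Category.id_comp, Category.comp_id]
      rfl)

theorem isEquivalence_of_inverse {K K' : Dual.D A} (i : (LTen₂ A).obj (K, K') ≅ unit A)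
    (i' : (LTen₂ A).obj (K', K) ≅ unit A) : ((LTen A).obj K).IsEquivalence :=
  (CategoryTheory.Equivalence.mk ((LTen A).obj K) ((LTen A).obj K') (cancelIso i').symm
    (cancelIso i)).isEquivalence_functor

theorem isEquivalence_shift_unit (k : ℤ) : ((LTen A).obj ((unit A)⟦k⟧)).IsEquivalence := by
  obtain ⟨i⟩ := nonempty_shift_unit_tensor (A := A) k (-k) (by omega)
  obtain ⟨i'⟩ := nonempty_shift_unit_tensor (A := A) (-k) k (by omega)
  exact isEquivalence_of_inverse i i'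

end Groth.Agent.DTenLib
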