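import Groth.Agent.DTenLib.Assoc
import Groth.Agent.DTenLib.Invertible

/-!
# The hypotheses of the monoidal structure on the derived category hold
-/

set_option autoImplicit false
set_option linter.style.haveILetI false
set_option backward.isDefEq.respectTransparency false

universe u

open CategoryTheory Limits MonoidalCategory DTen
attribute [local instance] HasDerivedCategory.standard

noncomputable section

namespace Groth.Agent.DTenLib

variable (A : Type u) [CommRing A]

theorem hasLTen₃_binder : HasLTen₃ A := (adapted₃ A).hasLeftDerivedFunctor (QQQ A)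

theorem isSymMonoidal_binder [HasLTen A] [HasLTen₃ A] : IsSymMonoidal A where
  isIso_symm :=
    haveI : ∀ X, IsIso ((DTen.symm A).app X) := fun X => isIso_symm_app X.1 X.2
    NatIso.isIso_of_isIso_app _
  isIso_assocL :=
    haveI : ∀ X, IsIso ((assocL A).app X) := fun X => isIso_assocL_app X.1 X.2.1 X.2.2
    NatIso.isIso_of_isIso_app _
  isIso_assocR :=
    haveI : ∀ X, IsIso ((assocR A).app X) := fun X => isIso_assocR_app X.1 X.2.1 X.2.2
    NatIso.isIso_of_isIso_app _
  isIso_unitL := by
    haveI : ∀ X, IsIso ((unitL A).app X) := fun X => by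
      refine (NatTrans.isIso_app_iff_of_iso _ (DerivedCategory.Q.objObjPreimageIso X)).1 ?_
      rw [unitL_app]
      haveI := isIso_ε_left (𝟙_ (DRing.Cx A)) (DerivedCategory.Q.objPreimage X) isKFlat_unitCx
      exact IsIso.comp_isIso' inferInstance inferInstance
    exact NatIso.isIso_of_isIso_app _
  isIso_unitR := by
    haveI : ∀ X, IsIso ((unitR A).app X) := fun X => by
      refine (NatTrans.isIso_app_iff_of_iso _ (DerivedCategory.Q.objObjPreimageIso X)).1 ?_
      rw [unitR_app]
      haveI := isIso_ε_right (DerivedCategory.Q.objPreimage X) (𝟙_ (DRing.Cx A)) isKFlat_unitCx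
      exact IsIso.comp_isIso' inferInstance inferInstance
    exact NatIso.isIso_of_isIso_app _

end Groth.Agent.DTenLib
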