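import Groth.Agent.DTenLib.EvalTen

/-!
# Exactness of `RHom` in its first variable
-/

set_option autoImplicit false
set_option linter.style.haveILetI false
set_option backward.isDefEq.respectTransparency false

universe u

open CategoryTheory Limits MonoidalCategory Pretriangulated CochainComplex
attribute [local instance] HasDerivedCategory.standard

noncomputable section

namespace Groth.Agent.DTenLib

/-- `Hom(F -, M)` is exact in the middle of every distinguished triangle. -/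
def CoHomExact {C : Type*} [Category C] [HasZeroObject C] [HasShift C ℤ] [Preadditive C]
    [∀ n : ℤ, (CategoryTheory.shiftFunctor C n).Additive] [Pretriangulated C] {D : Type*} [Category D]
    [Preadditive D] (F : C ⥤ D) (M : D) : Prop :=
  ∀ T ∈ distTriang C, ∀ φ : F.obj T.obj₂ ⟶ M, F.map T.mor₁ ≫ φ = 0 →
    ∃ ψ : F.obj T.obj₃ ⟶ M, F.map T.mor₂ ≫ ψ = φ

theorem CoHomExact.of_iso {C : Type*} [Category C] [HasZeroObject C] [HasShift C ℤ] [Preadditive C]
    [∀ n : ℤ, (CategoryTheory.shiftFunctor C n).Additive] [Pretriangulated C] {D : Type*} [Category D]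
    [Preadditive D] {F G : C ⥤ D} (e : F ≅ G) {M : D} (h : CoHomExact F M) : CoHomExact G M := by
  intro T hT φ hφ
  obtain ⟨ψ, hψ⟩ := h T hT (e.hom.app _ ≫ φ) (by rw [e.hom.naturality_assoc, hφ, comp_zero])
  refine ⟨e.inv.app _ ≫ ψ, ?_⟩
  rw [e.inv.naturality_assoc, hψ, Iso.inv_hom_id_app_assoc]

variable {A : Type u} [CommRing A] [DTen.HasLTen A]

/-- Exactness of `Hom(- ⊗^L R, M)` for a K-flat complex `R`. -/
theorem coHomExact_tensorRight_Q (R : DRing.Cx A) (hR : DRing.IsKFlat A R) (M : Dual.D A) :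
    CoHomExact (DTen.tensorRightD A (DerivedCategory.Q.obj R)) M := by
  intro T hT φ hφ
  obtain ⟨K, L, f, ⟨e⟩⟩ := (DerivedCategory.mem_distTriang_iff T).1 hT
  let F := DTen.tensorRightD A (DerivedCategory.Q.obj R)
  let W := KFlat.totR (curriedTensor (ModuleCat.{u} A)) R
  let ι : DerivedCategory.Q ⋙ F ≅ W ⋙ DerivedCategory.Q := εRightIso R hR
  let S := KFlat.cylSeq f
  have hS : (S.map W).ShortExact :=
    KFlat.shortExact_totR_of_splitting (curriedTensor (ModuleCat.{u} A)) R S (KFlat.cylSplitting f)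
  have hTS := DerivedCategory.triangleOfSES_distinguished hS
  let e₁ : T.obj₁ ≅ DerivedCategory.Q.obj K := Triangle.π₁.mapIso e
  let e₂ : T.obj₂ ≅ DerivedCategory.Q.obj L := Triangle.π₂.mapIso e
  let e₃ : T.obj₃ ≅ DerivedCategory.Q.obj (mappingCone f) := Triangle.π₃.mapIso e
  let m₁ : DerivedCategory.Q.obj K ⟶ DerivedCategory.Q.obj L := DerivedCategory.Q.map f
  let m₂ : DerivedCategory.Q.obj L ⟶ DerivedCategory.Q.obj (mappingCone f) :=
    DerivedCategory.Q.map (mappingCone.inr f)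
  have c₁ : T.mor₁ ≫ e₂.hom = e₁.hom ≫ m₁ := e.hom.comm₁
  have c₂ : T.mor₂ ≫ e₃.hom = e₂.hom ≫ m₂ := e.hom.comm₂
  let φ₀ : DerivedCategory.Q.obj (W.obj L) ⟶ M := ι.inv.app L ≫ F.map e₂.inv ≫ φ
  have c₁' : e₁.inv ≫ T.mor₁ = m₁ ≫ e₂.inv := by
    rw [Iso.inv_comp_eq, ← Category.assoc, Iso.eq_comp_inv]; exact c₁
  have h0 : DerivedCategory.Q.map (W.map f) ≫ φ₀ = 0 := by
    have n : DerivedCategory.Q.map (W.map f) ≫ ι.inv.app L = ι.inv.app K ≫ F.map m₁ :=
      ι.inv.naturality f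
    dsimp only [φ₀]
    rw [reassoc_of% n, ← F.map_comp_assoc, ← c₁', F.map_comp, Category.assoc, hφ, comp_zero,
      comp_zero]
  let a : DerivedCategory.Q.obj (W.obj (L ⊞ mappingCone (𝟙 K))) ⟶ M :=
    DerivedCategory.Q.map (W.map (biprod.fst : L ⊞ mappingCone (𝟙 K) ⟶ L)) ≫ φ₀
  have ha : DerivedCategory.Q.map (W.map (biprod.lift f (mappingCone.inr (𝟙 K)))) ≫ a = 0 := by
    simp only [a, ← Category.assoc, ← Functor.map_comp, biprod.lift_fst, h0]
  obtain ⟨b, hb⟩ : ∃ b : DerivedCategory.Q.obj (W.obj (mappingCone f)) ⟶ M,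
      a = DerivedCategory.Q.map (W.map (biprod.desc (-mappingCone.inr f)
        (mappingCone.map (𝟙 K) f (𝟙 K) f rfl))) ≫ b :=
    Triangle.yoneda_exact₂ _ hTS a ha
  have h1 : φ₀ = -(DerivedCategory.Q.map (W.map (mappingCone.inr f)) ≫ b) := by
    have := congrArg (DerivedCategory.Q.map (W.map (biprod.inl : L ⟶ L ⊞ mappingCone (𝟙 K))) ≫ ·) hb
    simp only [a, ← Category.assoc, ← Functor.map_comp, biprod.inl_fst, biprod.inl_desc] at this
    simpa using this
  refine ⟨-(F.map e₃.hom ≫ ι.hom.app _ ≫ b), ?_⟩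
  have n : F.map m₂ ≫ ι.hom.app (mappingCone f) =
      ι.hom.app L ≫ DerivedCategory.Q.map (W.map (mappingCone.inr f)) :=
    ι.hom.naturality (mappingCone.inr f)
  show F.map T.mor₂ ≫ (-(F.map e₃.hom ≫ ι.hom.app _ ≫ b)) = φ
  rw [Preadditive.comp_neg, ← F.map_comp_assoc, c₂, F.map_comp, Category.assoc, reassoc_of% n,
    ← Preadditive.comp_neg, ← Preadditive.comp_neg, ← h1]
  show F.map e₂.hom ≫ ι.hom.app L ≫ ι.inv.app L ≫ F.map e₂.inv ≫ φ = φ
  erw [ι.hom_inv_id_app_assoc, ← F.map_comp_assoc, e₂.hom_inv_id, F.map_id, Category.id_comp]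

/-- Exactness of `Hom(- ⊗^L R, M)`. -/
theorem coHomExact_tensorRight (R : Dual.D A) (M : Dual.D A) :
    CoHomExact (DTen.tensorRightD A R) M :=
  (coHomExact_tensorRight_Q (repr R) (isKFlat_repr R) M).of_iso
    ((DTen.LTen A).flip.mapIso (reprIso R))

variable [DTen.HasLTen₃ A] [DTen.IsSymMonoidal A]

/-- Tensoring on the left is tensoring on the right. -/
def tensorLeftIso (R : Dual.D A) : DTen.tensorRightD A R ≅ (DTen.LTen A).obj R :=
  NatIso.ofComponents (fun X => DTen.braiding R X) (fun {X Y} f => by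
    exact (DTen.symm A).naturality (Prod.mkHom (𝟙 R) f))

theorem homExact_tensorLeft (R X : Dual.D A) : HomExact ((DTen.LTen A).obj R) X :=
  (homExact_tensorRight R X).of_iso (tensorLeftIso R)

theorem coHomExact_tensorLeft (R M : Dual.D A) : CoHomExact ((DTen.LTen A).obj R) M :=
  (coHomExact_tensorRight R M).of_iso (tensorLeftIso R)

variable [DTen.HasRHom A]

theorem additive_tensorLeft (R : Dual.D A) : ((DTen.LTen A).obj R).Additive := by
  haveI := additive_tensorRightD R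
  exact Functor.additive_of_iso (tensorLeftIso R)

theorem symm_eq {X L M : Dual.D A} (φ : X ⟶ (DTen.RHomR A L).obj M) :
    (DTen.rhomHomEquiv X L M).symm φ = tmap φ (𝟙 L) ≫ DTen.ev L M :=
  (DTen.rhomAdj A L).homEquiv_counit X M φ

theorem symm_zero (X L M : Dual.D A) : (DTen.rhomHomEquiv X L M).symm 0 = 0 := by
  haveI := additive_tensorRightD L
  rw [symm_eq]
  show (DTen.tensorRightD A L).map (0 : X ⟶ _) ≫ _ = 0
  rw [Functor.map_zero, zero_comp]

theorem symm_add {X L M : Dual.D A} (φ φ' : X ⟶ (DTen.RHomR A L).obj M) :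
    (DTen.rhomHomEquiv X L M).symm (φ + φ') =
      (DTen.rhomHomEquiv X L M).symm φ + (DTen.rhomHomEquiv X L M).symm φ' := by
  haveI := additive_tensorRightD L
  rw [symm_eq, symm_eq, symm_eq]
  show (DTen.tensorRightD A L).map (φ + φ') ≫ _ = _
  rw [Functor.map_add, Preadditive.add_comp]
  rfl

theorem homEquiv_comp_RHomMap {L L' X M : Dual.D A} (g : L' ⟶ L)
    (ψ : (DTen.LTen₂ A).obj (X, L) ⟶ M) :
    DTen.rhomHomEquiv X L M ψ ≫ DTen.RHomMap g M =
      DTen.rhomHomEquiv X L' M (tmap (𝟙 X) g ≫ ψ) := by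
  apply (DTen.rhomHomEquiv X L' M).symm.injective
  rw [Equiv.symm_apply_apply, symm_eq]
  show tmap (DTen.rhomHomEquiv X L M ψ ≫ DTen.RHomMap g M) (𝟙 L') ≫ DTen.ev L' M = _
  have h : tmap (DTen.rhomHomEquiv X L M ψ) (𝟙 L) ≫ DTen.ev L M = ψ :=
    ((DTen.rhomAdj A L).homEquiv _ _).left_inv ψ
  conv_rhs => rw [← h, ← Category.assoc, tmap_comp, Category.id_comp, Category.comp_id]
  rw [show tmap (DTen.rhomHomEquiv X L M ψ ≫ DTen.RHomMap g M) (𝟙 L') =
      tmap (DTen.rhomHomEquiv X L M ψ) (𝟙 L') ≫ tmap (DTen.RHomMap g M) (𝟙 L') by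
    rw [tmap_comp, Category.comp_id], Category.assoc]
  refine (congrArg (tmap _ (𝟙 L') ≫ ·) (DTen.RHom_map_ev g M)).trans ?_
  rw [← Category.assoc, tmap_comp, Category.id_comp, Category.comp_id]

theorem symm_comp_RHomMap {L L' X M : Dual.D A} (g : L' ⟶ L) (φ : X ⟶ (DTen.RHomR A L).obj M) :
    (DTen.rhomHomEquiv X L' M).symm (φ ≫ DTen.RHomMap g M) =
      tmap (𝟙 X) g ≫ (DTen.rhomHomEquiv X L M).symm φ := by
  obtain ⟨ψ, rfl⟩ := (DTen.rhomHomEquiv X L M).surjective φ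
  rw [homEquiv_comp_RHomMap, Equiv.symm_apply_apply, Equiv.symm_apply_apply]

theorem RHomMap_zero (L L' M : Dual.D A) :
    DTen.RHomMap (0 : L' ⟶ L) M = 0 := by
  haveI := additive_tensorLeft ((DTen.RHomR A L).obj M)
  haveI := additive_tensorRightD L'
  apply (DTen.rhomHomEquiv _ L' M).symm.injective
  rw [← Category.id_comp (DTen.RHomMap (0 : L' ⟶ L) M), symm_comp_RHomMap, symm_zero]
  show ((DTen.LTen A).obj ((DTen.RHomR A L).obj M)).map (0 : L' ⟶ L) ≫ _ = 0
  rw [Functor.map_zero, zero_comp]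

theorem RHomMap_add {L L' : Dual.D A} (f g : L' ⟶ L) (M : Dual.D A) :
    DTen.RHomMap (f + g) M = DTen.RHomMap f M + DTen.RHomMap g M := by
  haveI := additive_tensorLeft ((DTen.RHomR A L).obj M)
  haveI := additive_tensorRightD L'
  apply (DTen.rhomHomEquiv _ L' M).symm.injective
  rw [← Category.id_comp (DTen.RHomMap (f + g) M), symm_comp_RHomMap]
  conv_rhs => rw [← Category.id_comp (DTen.RHomMap f M), ← Category.id_comp (DTen.RHomMap g M),
    symm_add, symm_comp_RHomMap, symm_comp_RHomMap]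
  show ((DTen.LTen A).obj ((DTen.RHomR A L).obj M)).map (f + g) ≫ _ =
    ((DTen.LTen A).obj ((DTen.RHomR A L).obj M)).map f ≫ _ +
    ((DTen.LTen A).obj ((DTen.RHomR A L).obj M)).map g ≫ _
  rw [Functor.map_add, Preadditive.add_comp]

/-- Exactness of `Hom(X, RHom(-, L))`. -/
theorem exists_RHomMap_factor {T : Triangle (Dual.D A)} (hT : T ∈ distTriang (Dual.D A))
    {L X : Dual.D A} (φ : X ⟶ (DTen.RHomR A T.obj₂).obj L) (hφ : φ ≫ DTen.RHomMap T.mor₁ L = 0) :
    ∃ χ : X ⟶ (DTen.RHomR A T.obj₃).obj L, χ ≫ DTen.RHomMap T.mor₂ L = φ := by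
  haveI := additive_tensorRightD T.obj₁
  have h0 : tmap (𝟙 X) T.mor₁ ≫ (DTen.rhomHomEquiv X T.obj₂ L).symm φ = 0 := by
    rw [← symm_comp_RHomMap, hφ, symm_zero]
  obtain ⟨ψ, hψ⟩ := coHomExact_tensorLeft X L T hT ((DTen.rhomHomEquiv X T.obj₂ L).symm φ) h0
  refine ⟨DTen.rhomHomEquiv X T.obj₃ L ψ, ?_⟩
  rw [homEquiv_comp_RHomMap]
  exact (congrArg (DTen.rhomHomEquiv X T.obj₂ L) hψ).trans (Equiv.apply_symm_apply _ φ)

/-- `K ↦ RHom(RHom(K, L), M)`. -/
def dualDual (L M : Dual.D A) : Dual.D A ⥤ Dual.D A :=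
  ((DTen.RHom A).flip.obj L).rightOp ⋙ (DTen.RHom A).flip.obj M

theorem additive_dualDual (L M : Dual.D A) : (dualDual L M).Additive where
  map_add {K K'} {f g} := by
    show DTen.RHomMap (DTen.RHomMap (f + g) L) M = _
    rw [RHomMap_add, RHomMap_add]
    rfl

/-- Exactness of `Hom(X, RHom(RHom(-, L), M))`. -/
theorem homExact_dualDual (L M X : Dual.D A) : HomExact (dualDual L M) X := by
  intro T hT φ hφ
  haveI := additive_tensorRightD ((DTen.RHomR A T.obj₃).obj L)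
  haveI := additive_tensorLeft X
  have hz : tmap (𝟙 X) (DTen.RHomMap T.mor₂ L) ≫ (DTen.rhomHomEquiv X _ M).symm φ = 0 := by
    rw [← symm_comp_RHomMap]
    refine (congrArg (DTen.rhomHomEquiv X ((DTen.RHomR A T.obj₃).obj L) M).symm
      (show φ ≫ DTen.RHomMap (DTen.RHomMap T.mor₂ L) M = 0 from hφ)).trans ?_
    exact symm_zero _ _ _
  obtain ⟨C, g, h, hC⟩ := distinguished_cocone_triangle₁ (DTen.RHomMap T.mor₁ L)
  have hg : g ≫ DTen.RHomMap T.mor₁ L = 0 := comp_distTriang_mor_zero₁₂ _ hC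
  obtain ⟨v, hv⟩ := exists_RHomMap_factor hT g hg
  obtain ⟨ψ, hψ⟩ := coHomExact_tensorLeft X M _ hC ((DTen.rhomHomEquiv X _ M).symm φ) (by
    show tmap (𝟙 X) g ≫ (DTen.rhomHomEquiv X _ M).symm φ = 0
    rw [← hv, show tmap (𝟙 X) (v ≫ DTen.RHomMap T.mor₂ L) =
      tmap (𝟙 X) v ≫ tmap (𝟙 X) (DTen.RHomMap T.mor₂ L) by rw [tmap_comp, Category.comp_id],
      Category.assoc, hz, comp_zero])
  refine ⟨DTen.rhomHomEquiv X _ M ψ, ?_⟩
  show DTen.rhomHomEquiv X _ M ψ ≫ DTen.RHomMap (DTen.RHomMap T.mor₁ L) M = φ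
  refine (homEquiv_comp_RHomMap _ _).trans ?_
  exact (congrArg (DTen.rhomHomEquiv X _ M) hψ).trans (Equiv.apply_symm_apply _ φ)

end Groth.Agent.DTenLib
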