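import Groth.Prelude.Def_DTen
import Groth.Agent.KFlat.BddAbove

/-!
# Perfect objects lie in every thick class containing the unit
-/

set_option autoImplicit false
set_option linter.style.haveILetI false

universe u

open CategoryTheory Limits MonoidalCategory Pretriangulated
attribute [local instance] HasDerivedCategory.standard

noncomputable section

namespace Groth.Agent.DTenLib

variable {A : Type u} [CommRing A]

/-- A thick class of objects of the derived category containing the unit. -/
structure ThickClass (P : Dual.D A → Prop) : Prop where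
  iso {K K' : Dual.D A} : (K ≅ K') → P K → P K'
  retract {K K' : Dual.D A} : Retract K K' → P K' → P K
  shift {K : Dual.D A} (n : ℤ) : P K → P (K⟦n⟧)
  middle (T : Triangle (Dual.D A)) : T ∈ distTriang (Dual.D A) → P T.obj₁ → P T.obj₃ → P T.obj₂
  unit : P (DTen.unit A)

variable {P : Dual.D A → Prop} (hP : ThickClass P)

include hP in
theorem ThickClass.of_isZero {Z : Dual.D A} (hZ : IsZero Z) : P Z :=
  hP.retract ⟨0, 0, hZ.eq_of_src _ _⟩ hP.unit

include hP in
theorem ThickClass.biprod {K K' : Dual.D A} (h : P K) (h' : P K') : P (K ⊞ K') :=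
  hP.middle _ (binaryBiproductTriangle_distinguished K K') h h'

/-- The single complex functor followed by localisation. -/
abbrev singleD (A : Type u) [CommRing A] (n : ℤ) : ModuleCat.{u} A ⥤ Dual.D A :=
  HomologicalComplex.single (ModuleCat.{u} A) (ComplexShape.up ℤ) n ⋙ DerivedCategory.Q

include hP in
theorem ThickClass.single_free (r : ℕ) : P ((singleD A 0).obj (ModuleCat.of A (Fin r → A))) := by
  induction r with
  | zero =>
    haveI : Subsingleton (ModuleCat.of A (Fin 0 → A)) := inferInstanceAs (Subsingleton (Fin 0 → A))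
    exact hP.of_isZero ((singleD A 0).map_isZero (ModuleCat.isZero_of_subsingleton _))
  | succ r ih =>
    let e : ModuleCat.of A (Fin (r + 1) → A) ≅ ModuleCat.of A A ⊞ ModuleCat.of A (Fin r → A) :=
      (Fin.consLinearEquiv A (fun _ : Fin (r + 1) => A)).symm.toModuleIso ≪≫
        (ModuleCat.biprodIsoProd (ModuleCat.of A A) (ModuleCat.of A (Fin r → A))).symm
    haveI := preservesBinaryBiproducts_of_preservesBiproducts (singleD A 0)
    exact hP.iso ((singleD A 0).mapIso e ≪≫ (singleD A 0).mapBiprod _ _).symm
      (hP.biprod hP.unit ih)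

include hP in
theorem ThickClass.single_zero_of_projective (M : ModuleCat.{u} A) (hf : Module.Finite A M)
    (hp : Module.Projective A M) : P ((singleD A 0).obj M) := by
  obtain ⟨r, f, g, -, -, hfg⟩ := Module.Finite.exists_comp_eq_id_of_projective A M
  let ρ : Retract M (ModuleCat.of A (Fin r → A)) :=
    ⟨ModuleCat.ofHom g, ModuleCat.ofHom f, ModuleCat.hom_ext hfg⟩
  exact hP.retract (ρ.map (singleD A 0)) (hP.single_free r)

include hP in
theorem ThickClass.single (n : ℤ) (M : ModuleCat.{u} A) (hf : Module.Finite A M)
    (hp : Module.Projective A M) : P ((singleD A n).obj M) := by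
  refine hP.iso ?_ (hP.shift (-n) (hP.single_zero_of_projective M hf hp))
  exact ((DerivedCategory.Q.commShiftIso (-n)).app _).symm ≪≫
    DerivedCategory.Q.mapIso (((CochainComplex.singleFunctors (ModuleCat.{u} A)).shiftIso (-n) n 0
      (by omega)).app M)

include hP in
/-- Perfect objects lie in thick classes containing the unit. -/
theorem ThickClass.of_isPerfect {K : Dual.D A} (hK : DRing.IsPerfect A K) : P K := by
  obtain ⟨E, a, b, hz, hE, ⟨e⟩⟩ := hK
  refine hP.iso e ?_
  have key : ∀ (N : ℕ), P (DerivedCategory.Q.obj (KFlat.brutal E (b + 1 - N))) := by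
    intro N
    induction N with
    | zero =>
      refine hP.of_isZero (DerivedCategory.Q.map_isZero ?_)
      rw [IsZero.iff_id_eq_zero]
      refine HomologicalComplex.hom_ext _ _ fun n => ?_
      by_cases hn : n < b + 1 - (0 : ℕ)
      · exact (KFlat.isZero_brutal E _ hn).eq_of_src _ _
      · exact (KFlat.isZero_brutal_of_isZero E _ (hz n (Or.inr (by push_cast at hn; omega)))).eq_of_src _ _
    | succ N ih =>
      obtain ⟨c, hc⟩ : ∃ c : ℤ, c = b + 1 - (N + 1 : ℕ) := ⟨_, rfl⟩
      rw [← hc]
      have hc' : b + 1 - (N : ℕ) = c + 1 := by push_cast at hc ⊢; omega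
      rw [hc'] at ih
      let S := KFlat.brutalShortComplex E c
      have hS : S.ShortExact :=
        HomologicalComplex.shortExact_of_degreewise_shortExact S
          fun i => (KFlat.brutalSplitting E c i).shortExact
      exact hP.middle _ (DerivedCategory.triangleOfSES_distinguished hS) ih
        (hP.single c (E.X c) (hE c).1 (hE c).2)
  have h := key ((b + 1 - a).toNat)
  haveI : IsIso (KFlat.brutalι E (b + 1 - ((b + 1 - a).toNat : ℤ))) := by
    haveI : ∀ n, IsIso ((KFlat.brutalι E (b + 1 - ((b + 1 - a).toNat : ℤ))).f n) := fun n => by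
      by_cases hn : b + 1 - ((b + 1 - a).toNat : ℤ) ≤ n
      · exact KFlat.isIso_incl E _ hn
      · exact ⟨0, (KFlat.isZero_brutal E _ (by omega)).eq_of_src _ _,
          (hz n (by omega)).eq_of_src _ _⟩
    exact HomologicalComplex.Hom.isIso_of_components _
  exact hP.iso (DerivedCategory.Q.mapIso (asIso (KFlat.brutalι E _))) h

end Groth.Agent.DTenLib
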