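import Groth.Prelude.Def_DTen
import Groth.Agent.BrownRep.Compact

/-!
# Finite supports in coproducts of complexes of modules
-/

set_option autoImplicit false
set_option linter.style.haveILetI false

universe w u

open CategoryTheory Limits MonoidalCategory
attribute [local instance] HasDerivedCategory.standard

noncomputable section

namespace Groth.Agent.DTenLib

variable {A : Type u} [CommRing A]

/-- The projection to a finite part of a coproduct of complexes. -/
def fpr {κ : Type u} (K : κ → DRing.Cx A) (s : Finset κ) : (∐ K) ⟶ ∐ K :=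
  haveI := Classical.decEq κ
  BrownRep.projFin K s

theorem fpr_eq {κ : Type u} (K : κ → DRing.Cx A) [DecidableEq κ] (s : Finset κ) :
    fpr K s = ∑ k ∈ s, Sigma.π K k ≫ Sigma.ι K k := by
  obtain rfl : ‹DecidableEq κ› = Classical.decEq κ := Subsingleton.elim _ _
  rfl

theorem ι_fpr {κ : Type u} (K : κ → DRing.Cx A) [DecidableEq κ] (s : Finset κ) (j : κ) :
    Sigma.ι K j ≫ fpr K s = if j ∈ s then Sigma.ι K j else 0 := by
  rw [fpr_eq, Preadditive.comp_sum]
  have : ∀ k ∈ s, Sigma.ι K j ≫ Sigma.π K k ≫ Sigma.ι K k = if j = k then Sigma.ι K j else 0 :=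
    fun k _ => by
      split_ifs with h
      · subst h; rw [Sigma.ι_π_eq_id_assoc]
      · rw [reassoc_of% (Sigma.ι_π_of_ne K h), zero_comp]
  rw [Finset.sum_congr rfl this, Finset.sum_ite_eq]

/-- Every element of a coproduct lives in a finite part. -/
theorem exists_fpr_apply {κ : Type u} (K : κ → DRing.Cx A) (n : ℤ) (y : (∐ K).X n) :
    ∃ s : Finset κ, ∀ t, s ⊆ t → ((fpr K t).f n).hom y = y := by
  classical
  haveI := Classical.decEq κ
  let S : Submodule A ((∐ K).X n) :=
    { carrier := {y | ∃ s : Finset κ, ∀ t, s ⊆ t → ((fpr K t).f n).hom y = y}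
      zero_mem' := ⟨∅, fun t _ => map_zero _⟩
      add_mem' := by
        rintro a b ⟨s, hs⟩ ⟨s', hs'⟩
        exact ⟨s ∪ s', fun t ht => by
          rw [map_add, hs t (Finset.union_subset_left ht), hs' t (Finset.union_subset_right ht)]⟩
      smul_mem' := by
        rintro r a ⟨s, hs⟩
        exact ⟨s, fun t ht => by rw [map_smul, hs t ht]⟩ }
  let q : (∐ K).X n ⟶ ModuleCat.of A (((∐ K).X n) ⧸ S) := ModuleCat.ofHom S.mkQ
  suffices h : q = 0 by
    have h' : S.mkQ y = 0 := LinearMap.congr_fun (congrArg ModuleCat.Hom.hom h) y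
    exact (Submodule.Quotient.mk_eq_zero S).1 h'
  refine (isColimitOfPreserves (HomologicalComplex.eval (ModuleCat.{u} A) (ComplexShape.up ℤ) n)
    (colimit.isColimit (Discrete.functor K))).hom_ext fun j => ?_
  obtain ⟨j⟩ := j
  show (Sigma.ι K j).f n ≫ q = (Sigma.ι K j).f n ≫ 0
  rw [comp_zero]
  refine ModuleCat.hom_ext (LinearMap.ext fun z => ?_)
  refine (Submodule.Quotient.mk_eq_zero S).2 ⟨{j}, fun t ht => ?_⟩
  have := congrArg (fun g : K j ⟶ ∐ K => (g.f n).hom z) (ι_fpr K t j)
  rw [if_pos (ht (Finset.mem_singleton_self j))] at this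
  exact this

/-- A map which kills all components vanishes. -/
theorem eq_zero_of_π {κ : Type u} [DecidableEq κ] (K : κ → DRing.Cx A) {Z : DRing.Cx A} (x : Z ⟶ ∐ K)
    (h : ∀ k, x ≫ Sigma.π K k = 0) : x = 0 := by
  refine HomologicalComplex.hom_ext _ _ fun n => ModuleCat.hom_ext (LinearMap.ext fun z => ?_)
  obtain ⟨s, hs⟩ := exists_fpr_apply K n ((x.f n).hom z)
  have h0 : x ≫ fpr K s = 0 := by
    rw [fpr_eq, Preadditive.comp_sum]
    exact Finset.sum_eq_zero fun k _ => by rw [← Category.assoc, h k, zero_comp]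
  have := congrArg (fun g : Z ⟶ ∐ K => (g.f n).hom z) h0
  exact (hs s subset_rfl).symm.trans this

/-- An additive functor preserving coproducts commutes with the finite projections. -/
theorem map_fpr (W : DRing.Cx A ⥤ DRing.Cx A) [W.Additive] {κ : Type u} (K : κ → DRing.Cx A)
    (s : Finset κ) :
    fpr (fun k => W.obj (K k)) s ≫ sigmaComparison W K =
      sigmaComparison W K ≫ W.map (fpr K s) := by
  classical
  haveI := Classical.decEq κ
  refine Sigma.hom_ext _ _ fun j => ?_
  rw [← Category.assoc, ι_fpr, ι_comp_sigmaComparison_assoc, ← W.map_comp, ι_fpr]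
  split_ifs with h
  · rw [ι_comp_sigmaComparison]
  · rw [zero_comp, W.map_zero]

end Groth.Agent.DTenLib
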