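import Groth.Agent.DTenLib.PerfClass
import Groth.Agent.DTenLib.Family
import Mathlib.Algebra.Homology.DerivedCategory.KProjective

/-!
# The shifted copies of the ring detect and are compact
-/

set_option autoImplicit false
set_option linter.style.haveILetI false

universe u

open CategoryTheory Limits MonoidalCategory Pretriangulated
attribute [local instance] HasDerivedCategory.standard

noncomputable section

namespace Groth.Agent.DTenLib

variable {A : Type u} [CommRing A]

/-- The ring in degree `m`. -/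
abbrev ringCx (A : Type u) [CommRing A] (m : ℤ) : DRing.Cx A :=
  (HomologicalComplex.single (ModuleCat.{u} A) (ComplexShape.up ℤ) m).obj (ModuleCat.of A A)

theorem isKProjective_ringCx (m : ℤ) : (ringCx A m).IsKProjective := by
  haveI : ∀ n, Projective ((ringCx A m).X n) := fun n => by
    by_cases hn : n = m
    · subst hn
      exact Projective.of_iso (HomologicalComplex.singleObjXSelf (ComplexShape.up ℤ) n
        (ModuleCat.of A A)).symm inferInstance
    · exact (HomologicalComplex.isZero_single_obj_X (ComplexShape.up ℤ) m _ n hn).projective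
  exact CochainComplex.isKProjective_of_projective _ m

theorem Q_ringCx_surjective (m : ℤ) (K : DRing.Cx A)
    (f : DerivedCategory.Q.obj (ringCx A m) ⟶ DerivedCategory.Q.obj K) :
    ∃ a : ringCx A m ⟶ K, DerivedCategory.Q.map a = f := by
  haveI := isKProjective_ringCx (A := A) m
  let e := DerivedCategory.quotientCompQhIso (ModuleCat.{u} A)
  obtain ⟨b, hb⟩ := (CochainComplex.IsKProjective.Qh_map_bijective (ringCx A m)
    ((HomotopyCategory.quotient _ _).obj K)).surjective (e.hom.app _ ≫ f ≫ e.inv.app K)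
  obtain ⟨a, rfl⟩ := (HomotopyCategory.quotient _ _).map_surjective b
  refine ⟨a, ?_⟩
  have n := e.hom.naturality a
  dsimp at n
  rw [hb] at n
  simp only [Category.assoc, Iso.inv_hom_id_app] at n
  exact (cancel_epi (e.hom.app (ringCx A m))).1
    (n.symm.trans (congrArg (e.hom.app (ringCx A m) ≫ ·) (Category.comp_id f)))

theorem homotopic_zero_of_Q_map_eq_zero (m : ℤ) {K : DRing.Cx A} (a : ringCx A m ⟶ K)
    (h : DerivedCategory.Q.map a = 0) : Nonempty (Homotopy a 0) := by
  haveI := isKProjective_ringCx (A := A) m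
  refine (HomotopyCategory.quotient_map_eq_zero_iff a).1
    ((CochainComplex.IsKProjective.Qh_map_bijective (ringCx A m) _).injective ?_)
  have n := (DerivedCategory.quotientCompQhIso (ModuleCat.{u} A)).hom.naturality a
  dsimp at n
  rw [h] at n
  replace n := n.trans comp_zero
  rw [Functor.map_zero, ← cancel_mono ((DerivedCategory.quotientCompQhIso (ModuleCat.{u} A)).hom.app K),
    zero_comp]
  exact n

/-- The generator of `ringCx`. -/
abbrev gen (A : Type u) [CommRing A] (m : ℤ) : (ringCx A m).X m :=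
  (HomologicalComplex.singleObjXSelf (ComplexShape.up ℤ) m (ModuleCat.of A A)).inv.hom (1 : A)

theorem ringCx_hom_ext (m : ℤ) {K : DRing.Cx A} (a b : ringCx A m ⟶ K)
    (h : (a.f m).hom (gen A m) = (b.f m).hom (gen A m)) : a = b := by
  refine HomologicalComplex.from_single_hom_ext ?_
  rw [← cancel_epi (HomologicalComplex.singleObjXSelf (ComplexShape.up ℤ) m (ModuleCat.of A A)).inv]
  exact ModuleCat.hom_ext (LinearMap.ext_ring h)

/-- Compactness against coproducts of complexes. -/
def CxCompact (Y : Dual.D A) : Prop :=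
  ∀ {κ : Type u} (K : κ → DRing.Cx A) (f : Y ⟶ DerivedCategory.Q.obj (∐ K)),
    ∃ s : Finset κ, ∀ t, s ⊆ t → f ≫ DerivedCategory.Q.map (fpr K t) = f

theorem fpr_comp_fpr {κ : Type u} (K : κ → DRing.Cx A) {s t : Finset κ} (h : s ⊆ t) :
    fpr K s ≫ fpr K t = fpr K s := by
  classical
  refine Sigma.hom_ext _ _ fun j => ?_
  rw [← Category.assoc, ι_fpr]
  split_ifs with hj
  · rw [ι_fpr, if_pos (h hj)]
  · rw [zero_comp]

theorem cxCompact_ringCx (m : ℤ) : CxCompact (DerivedCategory.Q.obj (ringCx A m)) := by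
  intro κ K f
  obtain ⟨a, rfl⟩ := Q_ringCx_surjective m (∐ K) f
  obtain ⟨s, hs⟩ := exists_fpr_apply K m ((a.f m).hom (gen A m))
  refine ⟨s, fun t ht => ?_⟩
  rw [← Functor.map_comp]
  exact congrArg DerivedCategory.Q.map (ringCx_hom_ext m _ _ (hs t ht))

theorem CxCompact.of_retract {Y Y' : Dual.D A} (r : Retract Y Y') (h : CxCompact Y') : CxCompact Y := by
  intro κ K f
  obtain ⟨s, hs⟩ := h K (r.r ≫ f)
  refine ⟨s, fun t ht => ?_⟩
  have := congrArg (r.i ≫ ·) (hs t ht)
  simpa [r.retract_assoc] using this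

theorem CxCompact.of_iso {Y Y' : Dual.D A} (e : Y ≅ Y') (h : CxCompact Y) : CxCompact Y' :=
  CxCompact.of_retract ⟨e.inv, e.hom, e.inv_hom_id⟩ h

theorem CxCompact.middle (T : Triangle (Dual.D A)) (hT : T ∈ distTriang (Dual.D A))
    (h₁ : CxCompact T.obj₁) (h₃ : CxCompact T.obj₃) : CxCompact T.obj₂ := by
  classical
  intro κ K f
  obtain ⟨s, hs⟩ := h₁ K (T.mor₁ ≫ f)
  let p := DerivedCategory.Q.map (fpr K s)
  obtain ⟨g, hg⟩ : ∃ g, f - f ≫ p = T.mor₂ ≫ g := Triangle.yoneda_exact₂ _ hT _ (by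
    rw [Preadditive.comp_sub, ← Category.assoc, hs s subset_rfl, sub_self])
  obtain ⟨s', hs'⟩ := h₃ K g
  refine ⟨s ∪ s', fun t ht => ?_⟩
  rw [← sub_add_cancel f (f ≫ p), hg, Preadditive.add_comp, Category.assoc,
    hs' t (Finset.union_subset_right ht), Category.assoc]
  congr 2
  show DerivedCategory.Q.map (fpr K s) ≫ DerivedCategory.Q.map (fpr K t) = p
  rw [← Functor.map_comp, fpr_comp_fpr K (Finset.union_subset_left ht)]

/-- Shifts of the unit are copies of the ring. -/
def unitShiftIso (m : ℤ) : (DTen.unit A)⟦-m⟧ ≅ DerivedCategory.Q.obj (ringCx A m) :=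
  ((DerivedCategory.Q.commShiftIso (-m)).app _).symm ≪≫
    DerivedCategory.Q.mapIso (((CochainComplex.singleFunctors (ModuleCat.{u} A)).shiftIso (-m) m 0
      (by omega)).app (ModuleCat.of A A))

/-- Shifts of perfect objects are compact. -/
theorem cxCompact_of_isPerfect {M : Dual.D A} (hM : DRing.IsPerfect A M) (n : ℤ) :
    CxCompact (M⟦n⟧) := by
  refine ThickClass.of_isPerfect (P := fun M => ∀ n : ℤ, CxCompact (M⟦n⟧))
    { iso := fun e h n => CxCompact.of_iso ((CategoryTheory.shiftFunctor _ n).mapIso e) (h n)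
      retract := fun r h n => CxCompact.of_retract (r.map (CategoryTheory.shiftFunctor _ n)) (h n)
      shift := fun {K} k h n => CxCompact.of_iso ((shiftFunctorAdd (Dual.D A) k n).app K) (h (k + n))
      middle := fun T hT h₁ h₃ n => CxCompact.middle _ (Triangle.shift_distinguished T hT n) (h₁ n) (h₃ n)
      unit := fun n => ?_ } hM n
  obtain ⟨m, rfl⟩ : ∃ m, n = -m := ⟨-n, by omega⟩
  exact CxCompact.of_iso (unitShiftIso m).symm (cxCompact_ringCx m)

/-- Shifts of the ring detect zero objects. -/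
theorem isZero_of_forall_eq_zero (C : Dual.D A)
    (h : ∀ (n : ℤ) (f : (DTen.unit A)⟦n⟧ ⟶ C), f = 0) : IsZero C := by
  let K := DerivedCategory.Q.objPreimage C
  let e : DerivedCategory.Q.obj K ≅ C := DerivedCategory.Q.objObjPreimageIso C
  refine IsZero.of_iso ?_ e.symm
  suffices hK : K.Acyclic by
    let Z : DRing.Cx A := (HomologicalComplex.single _ (ComplexShape.up ℤ) 0).obj (ModuleCat.of A PUnit)
    have hZ : IsZero Z := Functor.map_isZero _ (ModuleCat.isZero_of_subsingleton _)
    haveI : QuasiIso (0 : K ⟶ Z) := ⟨fun m => by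
      rw [quasiIsoAt_iff_exactAt _ m (hK m), HomologicalComplex.exactAt_iff_isZero_homology]
      exact Functor.map_isZero (HomologicalComplex.homologyFunctor _ (ComplexShape.up ℤ) m) hZ⟩
    exact IsZero.of_iso (DerivedCategory.Q.map_isZero hZ) (asIso (DerivedCategory.Q.map (0 : K ⟶ Z)))
  intro m
  rw [K.exactAt_iff' (m - 1) m (m + 1) (by simp) (by simp), ShortComplex.moduleCat_exact_iff]
  intro x hx
  change K.X m at x
  let a : ringCx A m ⟶ K := HomologicalComplex.mkHomFromSingle
    (ModuleCat.ofHom ((LinearMap.id : A →ₗ[A] A).smulRight x)) (fun j hj => by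
      obtain rfl : m + 1 = j := hj
      have hx' : (K.d m (m + 1)).hom x = 0 := hx
      exact ModuleCat.hom_ext (LinearMap.ext_ring (by simpa using hx')))
  have ha : (a.f m).hom (gen A m) = x := by simp [a, gen]
  have h0 : DerivedCategory.Q.map a = 0 := by
    rw [← cancel_epi (unitShiftIso m).hom, ← cancel_mono e.hom, Category.assoc, comp_zero, zero_comp]
    exact h (-m) _
  obtain ⟨H⟩ := homotopic_zero_of_Q_map_eq_zero m a h0
  refine ⟨(H.hom m (m - 1)).hom (gen A m), ?_⟩
  rw [← ha]
  have h1 := H.comm m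
  rw [dNext_eq _ (show (ComplexShape.up ℤ).Rel m (m + 1) by simp),
    prevD_eq _ (show (ComplexShape.up ℤ).Rel (m - 1) m by simp)] at h1
  simp [h1, HomologicalComplex.single_obj_d]
  rfl

/-- A map bijective on all shifts of the ring is an isomorphism. -/
theorem isIso_of_bijective_unit {Y Z : Dual.D A} (f : Y ⟶ Z)
    (h : ∀ (n k : ℤ), Function.Bijective fun g : (DTen.unit A)⟦n⟧ ⟶ Y⟦k⟧ => g ≫ f⟦k⟧') :
    IsIso f := by
  obtain ⟨C, g, d, hT⟩ := distinguished_cocone_triangle f
  refine (Triangle.isZero₃_iff_isIso₁ _ hT).1 (isZero_of_forall_eq_zero C fun n φ => ?_)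
  have b0 : Function.Bijective fun g : (DTen.unit A)⟦n⟧ ⟶ Y => g ≫ f := by
    let e := fun W => (shiftFunctorZero (Dual.D A) ℤ).app W
    refine ⟨fun a b hab => (cancel_mono (e Y).inv).1 ((h n 0).1 ?_), fun b => ?_⟩
    · have n' := (shiftFunctorZero (Dual.D A) ℤ).inv.naturality f
      dsimp at n' hab ⊢
      simp only [e, Iso.app_inv, Category.assoc, ← n', reassoc_of% hab]
    · obtain ⟨a, ha⟩ := (h n 0).2 (b ≫ (e Z).inv)
      refine ⟨a ≫ (e Y).hom, ?_⟩
      have n' := (shiftFunctorZero (Dual.D A) ℤ).hom.naturality f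
      dsimp at n' ha ⊢
      simp only [e, Iso.app_hom, Category.assoc, ← n', reassoc_of% ha]
      simp
  have hd : φ ≫ d = 0 := by
    refine (h n 1).1 ?_
    show (φ ≫ d) ≫ f⟦(1 : ℤ)⟧' = 0 ≫ f⟦(1 : ℤ)⟧'
    rw [Category.assoc, zero_comp]
    have : d ≫ f⟦(1 : ℤ)⟧' = 0 := comp_distTriang_mor_zero₃₁ _ hT
    rw [this, comp_zero]
  obtain ⟨ψ, hψ⟩ : ∃ ψ, φ = ψ ≫ g := Triangle.coyoneda_exact₃ _ hT φ hd
  obtain ⟨χ, rfl⟩ := b0.2 ψ
  rw [hψ, Category.assoc, show f ≫ g = 0 from comp_distTriang_mor_zero₁₂ _ hT, comp_zero]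

end Groth.Agent.DTenLib
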