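import Groth.Agent.DTenLib.BaseTensor
import Groth.Agent.DTenLib.Binders
import Groth.Agent.DTenLib.CoExact
import Groth.Agent.DTenLib.RingCx
import Groth.Agent.DTenLib.PerfClass
import Groth.Agent.DRingLib.RestrictPC

/-!
# Derived base change of `RHom`

The projection formula, the characterisation of the base change map of `RHom` by evaluations, and the five lemma
in the contravariant variable; for perfect objects the base change map is an isomorphism.
-/

set_option autoImplicit false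
set_option linter.style.haveILetI false
set_option linter.unusedSectionVars false
set_option backward.isDefEq.respectTransparency false

universe u

open CategoryTheory Limits MonoidalCategory Pretriangulated DTen
attribute [local instance] HasDerivedCategory.standard

noncomputable section

namespace Groth.Agent.DTenLib

variable {R R' : Type u} [CommRing R] [CommRing R'] (φ : R →+* R')
  [HasLTen R] [HasLTen R'] [HasLBase φ] [HasResTen φ] [ResLegIso φ]

theorem projPF_natural {E E₁ : Dual.D R'} {K K₁ : Dual.D R} (e : E ⟶ E₁) (k : K ⟶ K₁) :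
    tmap ((DRing.restrictD φ).map e) k ≫ projPF φ E₁ K₁ =
      projPF φ E K ≫ (DRing.restrictD φ).map (tmap e ((LBase φ).map k)) := by
  show tmap _ k ≫ tmap (𝟙 _) _ ≫ _ = (tmap (𝟙 _) _ ≫ _) ≫ _
  rw [Category.assoc, ← tmap_natural_resPF, ← Category.assoc, ← Category.assoc, tmap_comp, tmap_comp,
    Category.id_comp, Category.comp_id, (baseAdj φ).unit_naturality]

theorem projPF_Q (Y : DRing.Cx R') (T : DRing.Cx R) :
    projPF φ (DerivedCategory.Q.obj Y) (DerivedCategory.Q.obj T) ≫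
        (DRing.restrictD φ).map (tmap (𝟙 _) ((baseCmp φ).app T) ≫ (ε R').app (Y, (extCx φ).obj T)) =
      tmap ((resFactors φ).hom.app Y) (𝟙 (DerivedCategory.Q.obj T)) ≫ (ε R).app ((resCx φ).obj Y, T) ≫
        DerivedCategory.Q.map ((resCx φ).obj Y ◁ (unitCx φ).app T ≫ resTenCx φ Y ((extCx φ).obj T)) ≫
        (resFactors φ).inv.app (Y ⊗ (extCx φ).obj T : DRing.Cx R') := by
  have h : (resPF φ).app (DerivedCategory.Q.obj Y, (LBase φ).obj (DerivedCategory.Q.obj T)) ≫
      (DRing.restrictD φ).map (tmap (𝟙 (DerivedCategory.Q.obj Y)) ((baseCmp φ).app T)) =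
      tmap ((DRing.restrictD φ).map (𝟙 (DerivedCategory.Q.obj Y))) ((DRing.restrictD φ).map ((baseCmp φ).app T)) ≫
        (resPF φ).app (DerivedCategory.Q.obj Y, DerivedCategory.Q.obj ((extCx φ).obj T)) :=
    (tmap_natural_resPF φ _ _).symm
  rw [projPF, Functor.map_comp (DRing.restrictD φ)]
  simp only [Category.assoc]
  erw [reassoc_of% h, resPF_ε]
  rw [CategoryTheory.Functor.map_id]
  erw [← Category.assoc, tmap_comp, unit_baseCmp, ← Category.assoc, tmap_comp]
  simp only [Category.assoc, Iso.inv_hom_id_app, Category.comp_id, Category.id_comp]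
  have e3 : tmap ((resFactors φ).hom.app Y) (DerivedCategory.Q.map ((unitCx φ).app T)) ≫
      (ε R).app ((resCx φ).obj Y, (resCx φ).obj ((extCx φ).obj T)) =
      tmap ((resFactors φ).hom.app Y) (𝟙 (DerivedCategory.Q.obj T)) ≫ (ε R).app ((resCx φ).obj Y, T) ≫
        DerivedCategory.Q.map ((resCx φ).obj Y ◁ (unitCx φ).app T) := by
    have n := (ε R).naturality (Prod.mkHom (𝟙 ((resCx φ).obj Y)) ((unitCx φ).app T))
    dsimp at n
    rw [MonoidalCategory.id_whiskerRight, Category.id_comp] at n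
    erw [← n, ← Category.assoc]
    refine congrArg (· ≫ (ε R).app ((resCx φ).obj Y, (resCx φ).obj ((extCx φ).obj T))) ?_
    refine Eq.trans ?_ (tmap_comp _ _ _ _).symm
    rw [DerivedCategory.Q.map_id]
    erw [Category.comp_id, Category.id_comp]
  erw [reassoc_of% e3]
  rw [Functor.map_comp]
  simp only [Category.assoc]

theorem isIso_projCx (Y : DRing.Cx R') (T : DRing.Cx R) :
    IsIso ((resCx φ).obj Y ◁ (unitCx φ).app T ≫ resTenCx φ Y ((extCx φ).obj T)) := by
  haveI : ∀ n, IsIso (((resCx φ).obj Y ◁ (unitCx φ).app T ≫ resTenCx φ Y ((extCx φ).obj T)).f n) := fun n => by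
    haveI := KFlat.isIso_mapTotX (cancelBiIso φ) Y T n
    have h : ((resCx φ).obj Y ◁ (unitCx φ).app T ≫ resTenCx φ Y ((extCx φ).obj T)).f n =
        KFlat.mapTotX (cancelBiIso φ) Y T n := by
      refine HomologicalComplex.mapBifunctor.hom_ext fun p q h => ?_
      have h' : p + q = n := h
      refine Eq.trans ?_ (KFlat.ι_mapTotX (cancelBiIso φ) Y T p q n h).symm
      erw [HomologicalComplex.comp_f, HomologicalComplex.ι_mapBifunctorMap_assoc]
      simp only [HomologicalComplex.id_f, CategoryTheory.Functor.map_id, Category.id_comp]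
      refine (congrArg (_ ≫ ·) (ι_resTenCx φ Y ((extCx φ).obj T) p q n h')).trans ?_
      rw [← Category.assoc]
      refine congrArg (· ≫ _) (ModuleCat.hom_ext (TensorProduct.ext' fun m t => ?_))
      rfl
    rw [h]
    infer_instance
  exact HomologicalComplex.Hom.isIso_of_components _

/-- The projection formula. -/
theorem isIso_projPF (E : Dual.D R') (K : Dual.D R) : IsIso (projPF φ E K) := by
  let Y := repr E
  let T := repr K
  haveI hQ : IsIso (projPF φ (DerivedCategory.Q.obj Y) (DerivedCategory.Q.obj T)) := by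
    haveI := isIso_baseCmp_app φ T (isKFlat_repr K)
    haveI := isIso_ε_right Y ((extCx φ).obj T) (isKFlat_extCx φ (isKFlat_repr K))
    haveI := isIso_ε_right ((resCx φ).obj Y) T (isKFlat_repr K)
    haveI := isIso_projCx φ Y T
    haveI : IsIso (tmap (𝟙 (DerivedCategory.Q.obj Y)) ((baseCmp φ).app T)) :=
      ((LTen₂ R').mapIso (Iso.prod (Iso.refl _) (@asIso _ _ _ _ ((baseCmp φ).app T) ‹_›))).isIso_hom
    haveI : IsIso (tmap ((resFactors φ).hom.app Y) (𝟙 (DerivedCategory.Q.obj T))) :=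
      ((LTen₂ R).mapIso (Iso.prod ((resFactors φ).app Y) (Iso.refl _))).isIso_hom
    haveI : IsIso (projPF φ (DerivedCategory.Q.obj Y) (DerivedCategory.Q.obj T) ≫
        (DRing.restrictD φ).map (tmap (𝟙 _) ((baseCmp φ).app T) ≫ (ε R').app (Y, (extCx φ).obj T))) := by
      rw [projPF_Q]; infer_instance
    exact IsIso.of_isIso_comp_right _
      ((DRing.restrictD φ).map (tmap (𝟙 _) ((baseCmp φ).app T) ≫ (ε R').app (Y, (extCx φ).obj T)))
  haveI : IsIso (tmap ((DRing.restrictD φ).map (reprIso E).hom) (reprIso K).hom) :=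
    ((LTen₂ R).mapIso (Iso.prod ((DRing.restrictD φ).mapIso (reprIso E)) (reprIso K))).isIso_hom
  haveI : IsIso (tmap (reprIso E).hom ((LBase φ).map (reprIso K).hom)) :=
    ((LTen₂ R').mapIso (Iso.prod (reprIso E) ((LBase φ).mapIso (reprIso K)))).isIso_hom
  haveI : IsIso (tmap ((DRing.restrictD φ).map (reprIso E).hom) (reprIso K).hom ≫ projPF φ E K) := by
    rw [projPF_natural]; infer_instance
  exact IsIso.of_isIso_comp_left (tmap ((DRing.restrictD φ).map (reprIso E).hom) (reprIso K).hom) _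

variable [HasLTen₃ R] [HasLTen₃ R'] [IsSymMonoidal R] [IsSymMonoidal R']

/-- Extending and restricting is tensoring with the restricted unit. -/
def baseResIso : (LTen R).obj ((DRing.restrictD φ).obj (unit R')) ≅ LBase φ ⋙ DRing.restrictD φ :=
  NatIso.ofComponents
    (fun Z => @asIso _ _ _ _ (projPF φ (unit R') Z) (isIso_projPF φ _ Z) ≪≫
      (DRing.restrictD φ).mapIso (DTen.leftUnitor ((LBase φ).obj Z)))
    fun {Z Z₁} f => by
      show tmap (𝟙 _) f ≫ projPF φ (unit R') Z₁ ≫ (DRing.restrictD φ).map ((unitL R').app ((LBase φ).obj Z₁)) =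
        (projPF φ (unit R') Z ≫ (DRing.restrictD φ).map ((unitL R').app ((LBase φ).obj Z))) ≫
          (DRing.restrictD φ).map ((LBase φ).map f)
      have h := projPF_natural φ (𝟙 (unit R')) f
      rw [CategoryTheory.Functor.map_id] at h
      rw [reassoc_of% h, Category.assoc, ← Functor.map_comp, ← Functor.map_comp]
      exact congrArg (fun w => projPF φ (unit R') Z ≫ (DRing.restrictD φ).map w) (tmap_unitL ((LBase φ).map f))

theorem nonempty_LBase_unit : Nonempty ((LBase φ).obj (unit R) ≅ unit R') := by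
  haveI := isIso_baseCmp_app φ (𝟙_ (DRing.Cx R)) isKFlat_unitCx
  exact ⟨@asIso _ _ _ _ ((baseCmp φ).app (𝟙_ (DRing.Cx R))) ‹_› ≪≫
    DerivedCategory.Q.mapIso ((HomologicalComplex.singleMapHomologicalComplex
      (ModuleCat.extendScalars.{u, u, u} φ) (ComplexShape.up ℤ) 0).app _ ≪≫
      (HomologicalComplex.single (ModuleCat.{u} R') (ComplexShape.up ℤ) 0).mapIso
        (Functor.Monoidal.εIso (ModuleCat.extendScalars.{u, u, u} φ)).symm)⟩

theorem isEquivalence_tensor_base_shift (n : ℤ) :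
    ((LTen R').obj ((LBase φ).obj ((unit R)⟦n⟧))).IsEquivalence := by
  obtain ⟨i⟩ := nonempty_shift_unit_tensor (A := R) n (-n) (by omega)
  obtain ⟨i'⟩ := nonempty_shift_unit_tensor (A := R) (-n) n (by omega)
  obtain ⟨u⟩ := nonempty_LBase_unit φ
  haveI := isIso_baseδ φ ((unit R)⟦n⟧) ((unit R)⟦-n⟧)
  haveI := isIso_baseδ φ ((unit R)⟦-n⟧) ((unit R)⟦n⟧)
  exact isEquivalence_of_inverse
    ((asIso (baseδ φ ((unit R)⟦n⟧) ((unit R)⟦-n⟧))).symm ≪≫ (LBase φ).mapIso i ≪≫ u)
    ((asIso (baseδ φ ((unit R)⟦-n⟧) ((unit R)⟦n⟧))).symm ≪≫ (LBase φ).mapIso i' ≪≫ u)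

variable [HasRHom R] [HasRHom R']

theorem isIso_ev_of_isEquivalence {A : Type u} [CommRing A] [HasLTen A] [HasLTen₃ A] [IsSymMonoidal A] [HasRHom A]
    (L M : Dual.D A) (h : ((LTen A).obj L).IsEquivalence) : IsIso (ev L M) := by
  haveI := h
  haveI := Functor.isEquivalence_of_iso (tensorLeftIso L).symm
  exact inferInstanceAs (IsIso ((rhomAdj A L).counit.app M))

theorem comp_rhomBC_eq (K : Dual.D R) (M : Dual.D R') {X : Dual.D R}
    (g : (LBase φ).obj X ⟶ (RHomR R' ((LBase φ).obj K)).obj M) :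
    ((baseAdj φ).unit.app X ≫ (DRing.restrictD φ).map g) ≫ rhomBC φ K M =
      rhomHomEquiv X K _ ((baseAdj φ).unit.app ((LTen₂ R).obj (X, K)) ≫ (DRing.restrictD φ).map
        (baseδ φ X K ≫ tmap g (𝟙 _) ≫ ev ((LBase φ).obj K) M)) := by
  rw [rhomBC, rhomHomEquiv_comp, rhomBCCore]
  congr 1
  rw [Functor.map_comp, ← Category.assoc ((baseAdj φ).unit.app _), unit_baseδ, Functor.map_comp]
  simp only [Category.assoc]
  rw [← reassoc_of% (tmap_natural_resPF φ g (𝟙 ((LBase φ).obj K)))]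
  show tmap _ (𝟙 K) ≫ tmap (𝟙 _) _ ≫ _ = _
  simp only [← Category.assoc, tmap_comp, CategoryTheory.Functor.map_id, Category.comp_id, Category.id_comp]
  erw [Category.comp_id]

/-- The base change map of `RHom` is characterised by evaluations. -/
theorem baseδ_bcRHom (K M : Dual.D R) [IsIso (rhomBC φ K ((LBase φ).obj M))] :
    baseδ φ ((RHomR R K).obj M) K ≫ tmap (bcRHom φ K M) (𝟙 _) ≫ ev ((LBase φ).obj K) ((LBase φ).obj M) =
      (LBase φ).map (ev K M) := by
  have h := comp_rhomBC_eq φ K ((LBase φ).obj M) (bcRHom φ K M)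
  rw [bcRHom_fac, Category.assoc, IsIso.inv_hom_id, Category.comp_id] at h
  have h1 : (RHomR R K).map ((baseAdj φ).unit.app M) =
      rhomHomEquiv ((RHomR R K).obj M) K _ (ev K M ≫ (baseAdj φ).unit.app M) := by
    apply (rhomHomEquiv _ K _).symm.injective
    erw [Equiv.symm_apply_apply]
    rw [symm_eq]
    exact (rhomAdj R K).counit.naturality ((baseAdj φ).unit.app M)
  rw [h1] at h
  apply ((baseAdj φ).homEquiv _ _).injective
  rw [Adjunction.homEquiv_unit, Adjunction.homEquiv_unit, ← (rhomHomEquiv _ K _).injective h]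
  exact ((baseAdj φ).unit_naturality (ev K M)).symm

/-- The base change map followed by the comparison of `RHom`s. -/
def gam (K M : Dual.D R) : (DRing.restrictD φ).obj ((LBase φ).obj ((RHomR R K).obj M)) ⟶
    (RHomR R K).obj ((DRing.restrictD φ).obj ((LBase φ).obj M)) :=
  haveI := isIso_rhomBC φ K ((LBase φ).obj M)
  (DRing.restrictD φ).map (bcRHom φ K M) ≫ rhomBC φ K ((LBase φ).obj M)

theorem isIso_bcRHom_of_gam (K M : Dual.D R) [IsIso (rhomBC φ K ((LBase φ).obj M))] (h : IsIso (gam φ K M)) :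
    IsIso (bcRHom φ K M) := by
  haveI : IsIso ((DRing.restrictD φ).map (bcRHom φ K M) ≫ rhomBC φ K ((LBase φ).obj M)) := h
  haveI := IsIso.of_isIso_comp_right ((DRing.restrictD φ).map (bcRHom φ K M)) (rhomBC φ K ((LBase φ).obj M))
  refine (DerivedCategory.isIso_iff _ _).2 fun i => ?_
  haveI : IsIso ((ModuleCat.restrictScalars.{u} φ).map ((DerivedCategory.homologyFunctor (ModuleCat.{u} R') i).map
      (bcRHom φ K M))) := (NatIso.isIso_map_iff (Groth.Agent.TildeD.nu (ModuleCat.restrictScalars.{u} φ) i) (bcRHom φ K M)).1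
    (inferInstanceAs (IsIso ((DerivedCategory.homologyFunctor (ModuleCat.{u} R) i).map
      ((DRing.restrictD φ).map (bcRHom φ K M)))))
  exact isIso_of_reflects_iso _ (ModuleCat.restrictScalars.{u} φ)

theorem bcRHom_natural {K K₁ : Dual.D R} (k : K ⟶ K₁) (M : Dual.D R) [IsIso (rhomBC φ K ((LBase φ).obj M))]
    [IsIso (rhomBC φ K₁ ((LBase φ).obj M))] :
    (LBase φ).map (RHomMap k M) ≫ bcRHom φ K M =
      bcRHom φ K₁ M ≫ RHomMap ((LBase φ).map k) ((LBase φ).obj M) := by
  apply (rhomHomEquiv ((LBase φ).obj ((RHomR R K₁).obj M)) ((LBase φ).obj K) ((LBase φ).obj M)).symm.injective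
  rw [symm_eq, symm_comp_RHomMap, symm_eq]
  haveI := isIso_baseδ φ ((RHomR R K₁).obj M) K
  refine (cancel_epi (baseδ φ ((RHomR R K₁).obj M) K)).1 ?_
  have e1 : baseδ φ ((RHomR R K₁).obj M) K ≫ tmap ((LBase φ).map (RHomMap k M)) (𝟙 _) =
      (LBase φ).map (tmap (RHomMap k M) (𝟙 K)) ≫ baseδ φ ((RHomR R K).obj M) K := by
    rw [baseδ_natural, CategoryTheory.Functor.map_id]
  have e2 : baseδ φ ((RHomR R K₁).obj M) K ≫ tmap (𝟙 _) ((LBase φ).map k) =
      (LBase φ).map (tmap (𝟙 _) k) ≫ baseδ φ ((RHomR R K₁).obj M) K₁ := by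
    rw [baseδ_natural, CategoryTheory.Functor.map_id]
  calc _ = baseδ φ ((RHomR R K₁).obj M) K ≫ (tmap ((LBase φ).map (RHomMap k M)) (𝟙 _) ≫
        tmap (bcRHom φ K M) (𝟙 _)) ≫ ev ((LBase φ).obj K) ((LBase φ).obj M) := by
          rw [tmap_comp, Category.comp_id]
    _ = (LBase φ).map (tmap (RHomMap k M) (𝟙 K) ≫ ev K M) := by
          rw [Category.assoc, reassoc_of% e1, baseδ_bcRHom, ← Functor.map_comp]
    _ = (LBase φ).map (tmap (𝟙 _) k ≫ ev K₁ M) := congrArg _ (RHom_map_ev k M)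
    _ = (LBase φ).map (tmap (𝟙 _) k) ≫ baseδ φ ((RHomR R K₁).obj M) K₁ ≫ tmap (bcRHom φ K₁ M) (𝟙 _) ≫
        ev ((LBase φ).obj K₁) ((LBase φ).obj M) := by rw [baseδ_bcRHom, ← Functor.map_comp]
    _ = _ := by
          rw [← reassoc_of% e2, ← Category.assoc (tmap (𝟙 _) ((LBase φ).map k)), tmap_comp]

theorem rhomBC_natural {K K₁ : Dual.D R} (k : K ⟶ K₁) (M : Dual.D R') :
    (DRing.restrictD φ).map (RHomMap ((LBase φ).map k) M) ≫ rhomBC φ K M =
      rhomBC φ K₁ M ≫ RHomMap k ((DRing.restrictD φ).obj M) := by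
  let X := (DRing.restrictD φ).obj ((RHomR R' ((LBase φ).obj K₁)).obj M)
  obtain ⟨g, hg⟩ := ((baseAdj φ).homEquiv X ((RHomR R' ((LBase φ).obj K₁)).obj M)).surjective (𝟙 _)
  rw [Adjunction.homEquiv_unit] at hg
  rw [← Category.id_comp ((DRing.restrictD φ).map _), ← Category.id_comp (rhomBC φ K₁ M), ← hg]
  simp only [Category.assoc]
  rw [← Functor.map_comp_assoc, ← Category.assoc, comp_rhomBC_eq, ← Category.assoc _ _ (rhomBC φ K₁ M ≫ _),
    ← Category.assoc (_ ≫ _) (rhomBC φ K₁ M), comp_rhomBC_eq, homEquiv_comp_RHomMap]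
  congr 1
  rw [← Category.assoc (tmap (𝟙 X) k), show tmap (𝟙 X) k ≫ (baseAdj φ).unit.app ((LTen₂ R).obj (X, K₁)) =
    (baseAdj φ).unit.app ((LTen₂ R).obj (X, K)) ≫ (DRing.restrictD φ).map ((LBase φ).map (tmap (𝟙 X) k)) from
      ((baseAdj φ).unit_naturality _).symm, Category.assoc, ← Functor.map_comp]
  refine congrArg (fun w => (baseAdj φ).unit.app _ ≫ (DRing.restrictD φ).map w) ?_
  rw [← Category.assoc ((LBase φ).map _), baseδ_natural, Category.assoc, CategoryTheory.Functor.map_id]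
  refine congrArg (baseδ φ X K ≫ ·) ?_
  rw [← Category.assoc (tmap (𝟙 _) ((LBase φ).map k)), tmap_comp, Category.id_comp, Category.comp_id,
    show tmap (g ≫ RHomMap ((LBase φ).map k) M) (𝟙 ((LBase φ).obj K)) =
      tmap g (𝟙 _) ≫ tmap (RHomMap ((LBase φ).map k) M) (𝟙 _) by rw [tmap_comp, Category.comp_id], Category.assoc]
  refine (congrArg (tmap g (𝟙 _) ≫ ·) (RHom_map_ev ((LBase φ).map k) M)).trans ?_
  rw [← Category.assoc, tmap_comp, Category.id_comp, Category.comp_id]

theorem gam_natural {K K₁ : Dual.D R} (k : K ⟶ K₁) (M : Dual.D R) :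
    (DRing.restrictD φ).map ((LBase φ).map (RHomMap k M)) ≫ gam φ K M =
      gam φ K₁ M ≫ RHomMap k ((DRing.restrictD φ).obj ((LBase φ).obj M)) := by
  haveI := isIso_rhomBC φ K ((LBase φ).obj M)
  haveI := isIso_rhomBC φ K₁ ((LBase φ).obj M)
  rw [gam, gam, Category.assoc, ← rhomBC_natural, ← Functor.map_comp_assoc, ← Functor.map_comp_assoc, bcRHom_natural]

theorem isIso_gam_shift_unit (n : ℤ) (M : Dual.D R) : IsIso (gam φ ((unit R)⟦n⟧) M) := by
  let K := (unit R)⟦n⟧
  haveI := isIso_rhomBC φ K ((LBase φ).obj M)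
  have hK := isEquivalence_tensor_base_shift φ n
  haveI := isIso_ev_of_isEquivalence K M (isEquivalence_shift_unit n)
  haveI := isIso_ev_of_isEquivalence ((LBase φ).obj K) ((LBase φ).obj M) hK
  haveI := isIso_baseδ φ ((RHomR R K).obj M) K
  haveI : IsIso (baseδ φ ((RHomR R K).obj M) K ≫ tmap (bcRHom φ K M) (𝟙 _) ≫
      ev ((LBase φ).obj K) ((LBase φ).obj M)) := by
    rw [baseδ_bcRHom]; infer_instance
  haveI := IsIso.of_isIso_comp_left (baseδ φ ((RHomR R K).obj M) K) (tmap (bcRHom φ K M) (𝟙 _) ≫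
      ev ((LBase φ).obj K) ((LBase φ).obj M))
  haveI := IsIso.of_isIso_comp_right (tmap (bcRHom φ K M) (𝟙 ((LBase φ).obj K)))
    (ev ((LBase φ).obj K) ((LBase φ).obj M))
  haveI := hK
  haveI := Functor.isEquivalence_of_iso (tensorLeftIso ((LBase φ).obj K)).symm
  haveI : IsIso ((tensorRightD R' ((LBase φ).obj K)).map (bcRHom φ K M)) :=
    inferInstanceAs (IsIso (tmap (bcRHom φ K M) (𝟙 ((LBase φ).obj K))))
  haveI := isIso_of_reflects_iso (bcRHom φ K M) (tensorRightD R' ((LBase φ).obj K))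
  exact IsIso.comp_isIso' inferInstance inferInstance

end Groth.Agent.DTenLib
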