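import Groth.Agent.DTenLib.EvalHom
import Groth.Agent.DTenLib.RingCx
import Groth.Agent.DTenLib.Invertible
import Groth.Agent.DRingLib.InjAmp
import Groth.Agent.DRingLib.PseudoCoherent
import Groth.Agent.DRingLib.Complex
import Groth.Agent.DualCxLib.Crit

/-!
# The map `RHom(L, M) ⊗ K ⟶ RHom(RHom(K, L), M)` for pseudo-coherent `K`

For `L` bounded below and `M` of finite injective dimension both sides are, on objects bounded above,
bounded above, so the perfect approximations of `K` decide the question.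
-/

set_option autoImplicit false
set_option linter.style.haveILetI false
set_option backward.isDefEq.respectTransparency false

universe u

open CategoryTheory Limits MonoidalCategory Pretriangulated DTen
attribute [local instance] HasDerivedCategory.standard

noncomputable section

namespace Groth.Agent.DTenLib

variable {A : Type u} [CommRing A]

/-- Maps into a shift are maps out of the opposite shift. -/
def homShiftEquiv (X Y : Dual.D A) (j : ℤ) : (X ⟶ Y⟦j⟧) ≃ (X⟦-j⟧ ⟶ Y) :=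
  ((Functor.FullyFaithful.ofFullyFaithful (CategoryTheory.shiftFunctor (Dual.D A) (-j))).homEquiv).trans
    (Iso.homCongr (Iso.refl _) ((shiftFunctorCompIsoId (Dual.D A) j (-j) (by omega)).app Y))

/-- Objects above the injective amplitude have no maps into it. -/
theorem subsingleton_hom_of_isGE_of_injAmp {S M : Dual.D A} {a b c : ℤ} (hS : DerivedCategory.IsGE S c)
    (hM : DRing.HasInjAmplitudeIn A a b M) (h : b < c) : Subsingleton (S ⟶ M) := by
  obtain ⟨E, hE, hEi, ⟨e⟩⟩ := hM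
  haveI : ∀ j, Injective (E.X j) := fun j =>
    (Module.injective_iff_injective_object A (E.X j)).1 (hEi j)
  haveI : CochainComplex.IsStrictlyGE E a := (CochainComplex.isStrictlyGE_iff _ _).2 fun j hj => hE j (Or.inl hj)
  haveI : E.IsKInjective := CochainComplex.isKInjective_of_injective E a
  haveI := hS
  obtain ⟨P, hP, ⟨eP⟩⟩ := DerivedCategory.exists_iso_Q_obj_of_isGE S c
  suffices h : Subsingleton (DerivedCategory.Q.obj P ⟶ DRing.toD E) from (Iso.homCongr eP e.symm).subsingleton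
  refine subsingleton_of_forall_eq 0 fun f => ?_
  obtain ⟨g, rfl⟩ := (CochainComplex.IsKInjective.Qh_map_bijective
    ((HomotopyCategory.quotient (ModuleCat.{u} A) (ComplexShape.up ℤ)).obj P) E).2 f
  obtain ⟨φ, rfl⟩ := (HomotopyCategory.quotient _ _).map_surjective g
  have h0 : φ = 0 := HomologicalComplex.hom_ext _ _ fun j => by
    rcases lt_or_ge j c with hj | hj
    · exact ((CochainComplex.isStrictlyGE_iff P c).1 hP j hj).eq_of_src _ _
    · exact (hE j (Or.inr (by omega))).eq_of_tgt _ _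
  rw [h0, Functor.map_zero, Functor.map_zero]

/-- The unit is the ring in degree zero. -/
def unitInD : unit A ≅ Dual.inD A A := DRingLib.singleQZeroIso (ModuleCat.of A A)

theorem subsingleton_unit_shift_hom {Z : Dual.D A} {r : ℤ} (hZ : DerivedCategory.IsLE Z r) (k : ℤ)
    (h : r < -k) : Subsingleton ((unit A)⟦k⟧ ⟶ Z) := by
  haveI := hZ
  obtain ⟨j, rfl⟩ : ∃ j, k = -j := ⟨-k, (neg_neg k).symm⟩
  haveI : (Z⟦j⟧).IsLE (-1) :=
    haveI : (Z⟦j⟧).IsLE (r - j) := DerivedCategory.TStructure.t.isLE_shift Z r j (r - j) (by omega)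
    DerivedCategory.TStructure.t.isLE_of_le (Z⟦j⟧) (r - j) (-1) (by omega)
  haveI := DualCxLib.subsingleton_unit_hom (Z⟦j⟧)
  exact ((homShiftEquiv (unit A) Z j).symm.trans (Iso.homCongr unitInD (Iso.refl _))).subsingleton

theorem subsingleton_HD_of_unit {Z : Dual.D A} {j : ℤ} (h : Subsingleton ((unit A)⟦-j⟧ ⟶ Z)) :
    Subsingleton (Dual.HD A Z j) :=
  DRingLib.subsingleton_HD_of_hom_unit Z j
    ((((homShiftEquiv (unit A) Z j).symm.trans (Iso.homCongr unitInD (Iso.refl _)))).symm.subsingleton)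

theorem isLE_of_unit (Z : Dual.D A) (r : ℤ)
    (h : ∀ k : ℤ, r < -k → Subsingleton ((unit A)⟦k⟧ ⟶ Z)) : DerivedCategory.IsLE Z r :=
  (DerivedCategory.isLE_iff Z r).2 fun j hj =>
    ModuleCat.isZero_iff_subsingleton.2 (subsingleton_HD_of_unit (h (-j) (by omega)))

theorem isGE_of_unit (Z : Dual.D A) (c : ℤ)
    (h : ∀ k : ℤ, -k < c → Subsingleton ((unit A)⟦k⟧ ⟶ Z)) : DerivedCategory.IsGE Z c :=
  (DerivedCategory.isGE_iff Z c).2 fun j hj =>
    ModuleCat.isZero_iff_subsingleton.2 (subsingleton_HD_of_unit (h (-j) (by omega)))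

variable [HasLTen A]

theorem nonempty_shift_unit_tensor_obj (k : ℤ) (X : Dual.D A) :
    Nonempty ((LTen₂ A).obj ((unit A)⟦k⟧, X) ≅ X⟦k⟧) := by
  let K := DerivedCategory.Q.objPreimage X
  let e : DerivedCategory.Q.obj K ≅ X := DerivedCategory.Q.objObjPreimageIso X
  haveI := isIso_ε_left ((𝟙_ (DRing.Cx A))⟦k⟧) K (isKFlat_unitCx_shift k)
  exact ⟨(LTen₂ A).mapIso (Iso.prod ((DerivedCategory.Q.commShiftIso k).app _).symm e.symm) ≪≫
    asIso ((ε A).app ((𝟙_ (DRing.Cx A))⟦k⟧, K)) ≪≫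
    DerivedCategory.Q.mapIso (CochainComplex.mapBifunctorShift₁Iso (𝟙_ (DRing.Cx A)) K
        (curriedTensor (ModuleCat.{u} A)) k ≪≫
      (CategoryTheory.shiftFunctor (DRing.Cx A) k).mapIso (λ_ K)) ≪≫
    (DerivedCategory.Q.commShiftIso k).app K ≪≫ (CategoryTheory.shiftFunctor (Dual.D A) k).mapIso e⟩

variable [HasRHom A]

theorem subsingleton_unit_shift_RHom {L M : Dual.D A} (k : ℤ) (h : Subsingleton (L⟦k⟧ ⟶ M)) :
    Subsingleton ((unit A)⟦k⟧ ⟶ (RHomR A L).obj M) := by
  obtain ⟨i⟩ := nonempty_shift_unit_tensor_obj k L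
  exact ((rhomHomEquiv _ L M).symm.trans (Iso.homCongr i (Iso.refl M))).subsingleton

theorem isGE_RHom {C Z : Dual.D A} {m c : ℤ} (hC : DerivedCategory.IsLE C m)
    (hZ : DerivedCategory.IsGE Z c) : DerivedCategory.IsGE ((RHomR A C).obj Z) (c - m) := by
  haveI := hC
  haveI := hZ
  refine isGE_of_unit _ _ fun k hk => subsingleton_unit_shift_RHom k ?_
  haveI := DerivedCategory.TStructure.t.isLE_shift C m k (m - k) (by omega)
  exact subsingleton_of_forall_eq 0 fun f =>
    DerivedCategory.TStructure.t.zero_of_isLE_of_isGE f (m - k) c (by omega) inferInstance hZ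

theorem isLE_RHom {L M : Dual.D A} {n a b : ℤ} (hL : DerivedCategory.IsGE L n)
    (hM : DRing.HasInjAmplitudeIn A a b M) : DerivedCategory.IsLE ((RHomR A L).obj M) (b - n) := by
  haveI := hL
  refine isLE_of_unit _ _ fun k hk => subsingleton_unit_shift_RHom k ?_
  exact subsingleton_hom_of_isGE_of_injAmp (DerivedCategory.TStructure.t.isGE_shift L n k (n - k) (by omega))
    hM (by omega)

theorem isLE_LTen {R C : Dual.D A} {r m : ℤ} (hR : DerivedCategory.IsLE R r)
    (hC : DerivedCategory.IsLE C m) : DerivedCategory.IsLE ((LTen₂ A).obj (R, C)) (r + m) := by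
  refine (DerivedCategory.TStructure.t.isLE_iff_orthogonal (r + m) (r + m + 1) rfl _).2 fun Z f hZ => ?_
  have hG : DerivedCategory.IsGE ((RHomR A C).obj Z) (r + m + 1 - m) := isGE_RHom hC hZ
  apply (rhomHomEquiv R C Z).injective
  exact (DerivedCategory.TStructure.t.zero_of_isLE_of_isGE _ r (r + m + 1 - m) (by omega) hR hG).trans
    (DerivedCategory.TStructure.t.zero_of_isLE_of_isGE _ r (r + m + 1 - m) (by omega) hR hG).symm

variable [HasLTen₃ A] [IsSymMonoidal A]

theorem bijAt_of_isLE {L M C : Dual.D A} {n a b m : ℤ} (hL : DerivedCategory.IsGE L n)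
    (hM : DRing.HasInjAmplitudeIn A a b M) (hC : DerivedCategory.IsLE C m) (k : ℤ)
    (h : b - n + m < -k) : BijAt (evalHomNat L M) ((unit A)⟦k⟧) C := by
  haveI : Subsingleton ((unit A)⟦k⟧ ⟶ ((LTen A).obj ((RHomR A L).obj M)).obj C) :=
    subsingleton_unit_shift_hom (isLE_LTen (isLE_RHom hL hM) hC) k (by omega)
  haveI : Subsingleton ((unit A)⟦k⟧ ⟶ (dualDual L M).obj C) :=
    subsingleton_unit_shift_hom (isLE_RHom (isGE_RHom hC hL) hM) k (by omega)
  exact ⟨fun _ _ _ => Subsingleton.elim _ _, fun ψ => ⟨0, Subsingleton.elim _ _⟩⟩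

theorem isIso_evalHom_of_pc (K L M : Dual.D A) (hK : DRing.IsPseudoCoherent' A K) (n : ℤ)
    (hL : DerivedCategory.IsGE L n) (hM : DRing.HasFiniteInjDim A M) : IsIso (evalHom K L M) := by
  obtain ⟨a, b, hM⟩ := hM
  have hb : ∀ j : ℤ, BijAt (evalHomNat L M) ((unit A)⟦j⟧) K := fun j => by
    obtain ⟨m, hm⟩ : ∃ m, m = n - b - j - 1 := ⟨_, rfl⟩
    obtain ⟨E, α, ⟨⟨p, q, hE⟩, hEf⟩, ⟨D, g, d, hT, hD⟩⟩ := (DRingLib.isPseudoCoherent'_iff K).1 hK m
    have hP : DRing.IsPerfect A (DRing.toD E) :=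
      ⟨E, p, q, hE, fun i => DRingLib.fFree_imp_fProj (hEf i), ⟨Iso.refl _⟩⟩
    have hP' := bijShift_evalHom L M hP ((unit A)⟦j⟧)
    have hD' : DerivedCategory.IsLE D (m - 1) := DRingLib.isLE_of_aboveZero hD
    haveI := hD'
    haveI := additive_tensorLeft ((RHomR A L).obj M)
    haveI := additive_dualDual L M
    exact BijAt.middle _ _ (homExact_tensorLeft _ _) (homExact_dualDual L M _) _ hT
      (bijAt_of_isLE hL hM (DerivedCategory.TStructure.t.isLE_shift D (m - 1) (-1) m (by omega)) j (by omega))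
      ((hP' 0).of_iso ((shiftFunctorZero (Dual.D A) ℤ).app _))
      (bijAt_of_isLE hL hM hD' j (by omega))
      (hP' 1)
  refine isIso_of_bijective_unit _ fun j k => ?_
  let G := Functor.FullyFaithful.ofFullyFaithful (CategoryTheory.shiftFunctor (Dual.D A) k)
  let i : ((unit A)⟦j - k⟧)⟦k⟧ ≅ (unit A)⟦j⟧ :=
    ((shiftFunctorAdd' (Dual.D A) (j - k) k j (by omega)).app _).symm
  let e : ∀ W : Dual.D A, ((unit A)⟦j - k⟧ ⟶ W) ≃ ((unit A)⟦j⟧ ⟶ W⟦k⟧) := fun W =>
    G.homEquiv.trans (Iso.homCongr i (Iso.refl _))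
  suffices h : (fun g : (unit A)⟦j⟧ ⟶ _ => g ≫ (evalHom K L M)⟦k⟧') ∘ ⇑(e _) =
      ⇑(e _) ∘ fun g => g ≫ evalHom K L M by
    exact (Function.Bijective.of_comp_iff _ (e _).bijective).1 (h ▸ (e _).bijective.comp (hb (j - k)))
  funext g
  simp [e, G, Functor.FullyFaithful.homEquiv]

end Groth.Agent.DTenLib
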