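import Groth.Agent.DTenLib.Exact
import Groth.Agent.DTenLib.Invertible
import Groth.Agent.DTenLib.PerfClass

/-!
# The map `K ⊗ RHom(M, L) ⟶ RHom(M, K ⊗ L)` for perfect `K`
-/

set_option autoImplicit false
set_option linter.style.haveILetI false

universe u

open CategoryTheory Limits MonoidalCategory Pretriangulated DTen
attribute [local instance] HasDerivedCategory.standard

noncomputable section

namespace Groth.Agent.DTenLib

variable {A : Type u} [CommRing A] [HasLTen A] [HasRHom A]

theorem additive_tensorRightD (L : Dual.D A) : (tensorRightD A L).Additive := by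
  haveI := (rhomAdj A L).leftAdjoint_preservesColimits
  haveI := preservesBinaryBiproducts_of_preservesBinaryCoproducts (tensorRightD A L)
  exact Functor.additive_of_preservesBinaryBiproducts _

variable [HasLTen₃ A] [IsSymMonoidal A]

theorem homEquiv_comp_map (L : Dual.D A) {X M M' : Dual.D A} (g : (LTen₂ A).obj (X, L) ⟶ M)
    (h : M ⟶ M') : rhomHomEquiv X L M' (g ≫ h) = rhomHomEquiv X L M g ≫ (RHomR A L).map h :=
  (rhomAdj A L).homEquiv_naturality_right g h

variable (L M : Dual.D A)

/-- `evalTen` as a natural transformation in its first variable. -/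
def evalTenNat : tensorRightD A ((RHomR A M).obj L) ⟶ tensorRightD A L ⋙ RHomR A M where
  app K := evalTen K L M
  naturality {K K'} f := by
    show tmap f (𝟙 ((RHomR A M).obj L)) ≫ evalTen K' L M =
      evalTen K L M ≫ (RHomR A M).map (tmap f (𝟙 L))
    rw [evalTen, evalTen, homEquiv_comp, ← homEquiv_comp_map]
    congr 1
    rw [evalTenAux, evalTenAux, ← Category.assoc, associator_naturality, tmap_id, Category.assoc,
      Category.assoc, tmap_comp, tmap_comp, Category.comp_id, Category.id_comp, Category.comp_id,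
      Category.id_comp]

theorem bijective_evalTen_of_isEquivalence (K : Dual.D A) (hK : ((LTen A).obj K).IsEquivalence)
    (X : Dual.D A) :
    Function.Bijective fun φ : X ⟶ (LTen₂ A).obj (K, (RHomR A M).obj L) => φ ≫ evalTen K L M := by
  haveI := hK
  let E := (LTen A).obj K
  let Y := E.objPreimage X
  let e : E.obj Y ≅ X := E.objObjPreimageIso X
  let eS : (E.obj Y ⟶ E.obj ((RHomR A M).obj L)) ≃ (X ⟶ E.obj ((RHomR A M).obj L)) :=
    Iso.homCongr e (Iso.refl _)
  let b : (Y ⟶ (RHomR A M).obj L) ≃ (X ⟶ (LTen₂ A).obj (K, (RHomR A M).obj L)) :=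
    (Functor.FullyFaithful.ofFullyFaithful E).homEquiv.trans eS
  let c : (Y ⟶ (RHomR A M).obj L) ≃ (X ⟶ (RHomR A M).obj ((LTen₂ A).obj (K, L))) :=
    (rhomHomEquiv Y M L).symm.trans ((Functor.FullyFaithful.ofFullyFaithful E).homEquiv.trans
      ((Iso.homCongr (associator K Y M).symm (Iso.refl _)).trans
      ((rhomHomEquiv ((LTen₂ A).obj (K, Y)) M ((LTen₂ A).obj (K, L))).trans
        (Iso.homCongr e (Iso.refl _)))))
  suffices h : (fun φ : X ⟶ (LTen₂ A).obj (K, (RHomR A M).obj L) => φ ≫ evalTen K L M) ∘ ⇑b = ⇑c by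
    exact (Function.Bijective.of_comp_iff _ b.bijective).1 (h ▸ c.bijective)
  funext g
  show (e.inv ≫ tmap (𝟙 K) g ≫ 𝟙 _) ≫ evalTen K L M =
    e.inv ≫ rhomHomEquiv ((LTen₂ A).obj (K, Y)) M _ ((associator K Y M).hom ≫
      tmap (𝟙 K) ((rhomHomEquiv Y M L).symm g) ≫ 𝟙 _) ≫ 𝟙 _
  rw [Category.comp_id, Category.comp_id, Category.comp_id, Category.assoc]
  refine congrArg (e.inv ≫ ·) ?_
  rw [evalTen, homEquiv_comp, (rhomAdj A M).homEquiv_counit]
  congr 1
  rw [evalTenAux, ← Category.assoc, associator_naturality, Category.assoc, tmap_comp, Category.id_comp]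
  rfl

theorem bijShift_evalTen {K : Dual.D A} (hK : DRing.IsPerfect A K) (X : Dual.D A) :
    BijShift (evalTenNat L M) X K := by
  haveI := additive_tensorRightD ((RHomR A M).obj L)
  haveI := additive_tensorRightD L
  haveI := additive_tensorRightD M
  haveI : (RHomR A M).Additive := (rhomAdj A M).right_adjoint_additive
  have hF := homExact_tensorRight ((RHomR A M).obj L) X
  have hG : HomExact (tensorRightD A L ⋙ RHomR A M) X :=
    (homExact_tensorRight L ((tensorRightD A M).obj X)).comp_rightAdjoint (rhomAdj A M)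
  exact ThickClass.of_isPerfect (P := fun K => BijShift (evalTenNat L M) X K)
    { iso := fun e h => h.of_iso e
      retract := fun r h => h.of_retract r
      shift := fun n h => h.shift n
      middle := fun T hT h₁ h₃ => BijShift.middle _ X hF hG T hT h₁ h₃
      unit := fun n => bijective_evalTen_of_isEquivalence L M _ (isEquivalence_shift_unit n) X } hK

theorem isIso_evalTen {K : Dual.D A} (hK : DRing.IsPerfect A K) : IsIso (evalTen K L M) :=
  isIso_of_bijective _ fun X =>
    ((bijShift_evalTen L M hK X) 0).of_iso ((shiftFunctorZero (Dual.D A) ℤ).app K)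

end Groth.Agent.DTenLib
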