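import Groth.Agent.DTenLib.Res
import Groth.Agent.DTenLib.Family
import Groth.Agent.DTenLib.PerfClass

/-!
# Every object is built from the unit by coproducts and cones
-/

set_option autoImplicit false
set_option linter.style.haveILetI false

universe u

open CategoryTheory Limits MonoidalCategory Pretriangulated CochainComplex
attribute [local instance] HasDerivedCategory.standard

noncomputable section

namespace Groth.Agent.DTenLib

open Groth.Agent.DCohLib

variable {A : Type u} [CommRing A]

/-- A thick class closed under coproducts of complexes. -/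
structure LocClass (P : Dual.D A → Prop) : Prop extends ThickClass P where
  sigma {κ : Type u} (K : κ → DRing.Cx A) :
    (∀ k, P (DerivedCategory.Q.obj (K k))) → P (DerivedCategory.Q.obj (∐ K))

variable {P : Dual.D A → Prop} (hP : LocClass P)

include hP in
theorem LocClass.of_cofan {κ : Type u} {K : κ → DRing.Cx A} (c : Cofan K) (hc : IsColimit c)
    (h : ∀ k, P (DerivedCategory.Q.obj (K k))) : P (DerivedCategory.Q.obj c.pt) :=
  hP.iso (DerivedCategory.Q.mapIso ((coproductIsCoproduct K).coconePointUniqueUpToIso hc)) (hP.sigma K h)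

/-- A free module is the coproduct of copies of the ring. -/
def freeCofan (X : Type u) : Cofan (fun _ : X => ModuleCat.of A A) :=
  Cofan.mk ((ModuleCat.free A).obj X) fun x =>
    ModuleCat.ofHom (LinearMap.toSpanSingleton A _ (ModuleCat.freeMk x))

/-- The colimit property of `freeCofan`. -/
def isColimitFreeCofan (X : Type u) : IsColimit (freeCofan (A := A) X) :=
  Cofan.IsColimit.mk _ (fun s => ModuleCat.freeDesc (TypeCat.ofHom fun x => (s.inj x).hom (1 : A)))
    (fun s x => ModuleCat.hom_ext (LinearMap.ext_ring (by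
      show (ModuleCat.freeDesc (TypeCat.ofHom fun x => (s.inj x).hom (1 : A))).hom
        ((LinearMap.toSpanSingleton A ((ModuleCat.free A).obj X) (ModuleCat.freeMk x)) 1) = _
      rw [LinearMap.toSpanSingleton_apply, one_smul]
      exact ModuleCat.freeDesc_apply _ x)))
    (fun s m hm => ModuleCat.free_hom_ext fun x => by
      rw [ModuleCat.freeDesc_apply]
      have h : m.hom ((LinearMap.toSpanSingleton A ((ModuleCat.free A).obj X) (ModuleCat.freeMk x)) 1) =
          (s.inj x).hom (1 : A) := congrArg (fun g => g.hom (1 : A)) (hm x)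
      rw [LinearMap.toSpanSingleton_apply, one_smul] at h
      exact h)

include hP in
theorem LocClass.single_free (n : ℤ) (X : Type u) : P ((singleD A n).obj ((ModuleCat.free A).obj X)) := by
  let S := HomologicalComplex.single (ModuleCat.{u} A) (ComplexShape.up ℤ) n
  exact hP.of_cofan (Cofan.mk (S.obj ((ModuleCat.free A).obj X)) fun x => S.map ((freeCofan X).inj x))
    (isColimitCofanMkObjOfIsColimit S _ _ (isColimitFreeCofan X))
    fun _ => hP.toThickClass.single n (ModuleCat.of A A) (Module.Finite.self A) (inferInstanceAs (Module.Projective A A))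

/-- A complex with zero differential is the coproduct of its terms. -/
def zeroDiffCofan (Q : ℤ → ModuleCat.{u} A) :
    Cofan (fun q : ULift.{u} ℤ =>
      (HomologicalComplex.single (ModuleCat.{u} A) (ComplexShape.up ℤ) q.down).obj (Q q.down)) :=
  Cofan.mk (KFlat.zeroDiff Q) fun q =>
    HomologicalComplex.mkHomFromSingle (𝟙 (Q q.down)) (fun _ _ => comp_zero)

/-- The colimit property of `zeroDiffCofan`. -/
def isColimitZeroDiffCofan (Q : ℤ → ModuleCat.{u} A) : IsColimit (zeroDiffCofan Q) :=
  HomologicalComplex.isColimitOfEval _ _ fun n => by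
    have hc : ((zeroDiffCofan Q).ι.app ⟨⟨n⟩⟩).f n =
        (HomologicalComplex.singleObjXSelf (ComplexShape.up ℤ) n (Q n)).hom :=
      (HomologicalComplex.mkHomFromSingle_f (K := KFlat.zeroDiff Q) (𝟙 (Q n)) (fun _ _ => comp_zero)).trans
        (Category.comp_id _)
    exact
      { desc := fun s =>
          (HomologicalComplex.singleObjXSelf (ComplexShape.up ℤ) n (Q n)).inv ≫ s.ι.app ⟨⟨n⟩⟩
        fac := fun s q => by
          obtain ⟨⟨q⟩⟩ := q
          by_cases hq : n = q
          · subst hq
            show ((zeroDiffCofan Q).ι.app ⟨⟨n⟩⟩).f n ≫ _ = _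
            rw [hc]
            exact Iso.hom_inv_id_assoc _ _
          · exact IsZero.eq_of_src
              (X := ((HomologicalComplex.single (ModuleCat.{u} A) (ComplexShape.up ℤ) q).obj (Q q)).X n)
              (HomologicalComplex.isZero_single_obj_X (ComplexShape.up ℤ) q (Q q) n hq) _ _
        uniq := fun s f hf => by
          rw [← hf ⟨⟨n⟩⟩]
          show f = _ ≫ ((zeroDiffCofan Q).ι.app ⟨⟨n⟩⟩).f n ≫ f
          rw [hc]
          exact (Iso.inv_hom_id_assoc _ _).symm }

include hP in
theorem LocClass.zeroDiff_free (X : ℤ → Type u) :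
    P (DerivedCategory.Q.obj (KFlat.zeroDiff fun n => (ModuleCat.free A).obj (X n))) :=
  hP.of_cofan (zeroDiffCofan fun n => (ModuleCat.free A).obj (X n)) (isColimitZeroDiffCofan _)
    fun q => hP.single_free q.down (X q.down)

section Telescope

variable (F : ℕ ⥤ DRing.Cx A)

/-- The terms, indexed in the right universe. -/
abbrev tK (i : ULift.{u} ℕ) : DRing.Cx A := F.obj i.down

/-- The telescope map. -/
def tMap : (∐ tK F) ⟶ ∐ tK F :=
  Sigma.desc fun i => Sigma.ι (tK F) i -
    F.map (homOfLE (Nat.le_succ i.down)) ≫ Sigma.ι (tK F) ⟨i.down + 1⟩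

theorem mono_tMap : Mono (tMap F) := by
  classical
  refine ⟨fun {Z} x y hxy => sub_eq_zero.1 ?_⟩
  have hd : (x - y) ≫ tMap F = 0 := by rw [Preadditive.sub_comp, hxy, sub_self]
  have e₀ : tMap F ≫ Sigma.π (tK F) ⟨0⟩ = Sigma.π (tK F) ⟨0⟩ := by
    refine Sigma.hom_ext _ _ fun i => ?_
    rw [tMap, Sigma.ι_desc_assoc, Preadditive.sub_comp, Category.assoc,
      Sigma.ι_π_of_ne _ (show (⟨i.down + 1⟩ : ULift.{u} ℕ) ≠ ⟨0⟩ by simp [ULift.ext_iff]),
      comp_zero, sub_zero]
  have e₁ : ∀ j, tMap F ≫ Sigma.π (tK F) ⟨j + 1⟩ =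
      Sigma.π (tK F) ⟨j + 1⟩ - Sigma.π (tK F) ⟨j⟩ ≫ F.map (homOfLE (Nat.le_succ j)) := fun j => by
    refine Sigma.hom_ext _ _ fun i => ?_
    obtain ⟨i⟩ := i
    rw [tMap, Sigma.ι_desc_assoc, Preadditive.sub_comp, Category.assoc, Preadditive.comp_sub]
    congr 1
    by_cases h : i = j
    · subst h
      rw [Sigma.ι_π_eq_id, Category.comp_id, Sigma.ι_π_eq_id_assoc]
    · rw [Sigma.ι_π_of_ne _ (show (⟨i + 1⟩ : ULift.{u} ℕ) ≠ ⟨j + 1⟩ by simp [ULift.ext_iff, h]),
        comp_zero, reassoc_of% (Sigma.ι_π_of_ne (tK F) (show (⟨i⟩ : ULift.{u} ℕ) ≠ ⟨j⟩ by simp [ULift.ext_iff, h])),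
        zero_comp]
  refine eq_zero_of_π (tK F) _ fun k => ?_
  obtain ⟨k⟩ := k
  induction k with
  | zero => rw [← e₀, ← Category.assoc, hd, zero_comp]
  | succ k ih =>
    have h := congrArg (· ≫ Sigma.π (tK F) ⟨k + 1⟩) hd
    simp only [Category.assoc, e₁, Preadditive.comp_sub, reassoc_of% ih, zero_comp, sub_zero] at h
    exact h

variable {F} (c : Cocone F)

/-- The map to the colimit. -/
def tDesc : (∐ tK F) ⟶ c.pt := Sigma.desc fun i => c.ι.app i.down

theorem tMap_tDesc : tMap F ≫ tDesc c = 0 := by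
  refine Sigma.hom_ext _ _ fun i => ?_
  rw [tMap, Sigma.ι_desc_assoc, Preadditive.sub_comp, Category.assoc, tDesc, Sigma.ι_desc,
    Sigma.ι_desc, c.w, sub_self, comp_zero]

/-- The telescope sequence. -/
def tSeq : ShortComplex (DRing.Cx A) := ShortComplex.mk (tMap F) (tDesc c) (tMap_tDesc c)

theorem shortExact_tSeq (hc : IsColimit c) : (tSeq c).ShortExact := by
  haveI : Mono (tSeq c).f := mono_tMap F
  have hcomm : ∀ s : CokernelCofork (tMap F), ∀ n : ℕ, F.map (homOfLE (Nat.le_succ n)) ≫
      Sigma.ι (tK F) ⟨n + 1⟩ ≫ s.π = Sigma.ι (tK F) ⟨n⟩ ≫ s.π := fun s n => by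
    have h := congrArg (Sigma.ι (tK F) ⟨n⟩ ≫ ·) (CokernelCofork.condition s)
    simp only [comp_zero] at h
    rw [← Category.assoc] at h
    erw [Sigma.ι_desc] at h
    rw [Preadditive.sub_comp, Category.assoc, sub_eq_zero] at h
    exact h.symm
  let mkC : ∀ s : CokernelCofork (tMap F), Cocone F := fun s =>
    ⟨s.pt, NatTrans.ofSequence (F := F) (G := (Functor.const ℕ).obj s.pt)
      (fun n => Sigma.ι (tK F) ⟨n⟩ ≫ s.π) (fun n => (hcomm s n).trans (Category.comp_id _).symm)⟩
  have hk : IsColimit (CokernelCofork.ofπ (tDesc c) (tMap_tDesc c)) :=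
    Cofork.IsColimit.mk _ (fun s => hc.desc (mkC s))
      (fun s => Sigma.hom_ext _ _ fun i => by
        show Sigma.ι (tK F) i ≫ tDesc c ≫ hc.desc (mkC s) = _
        rw [tDesc, Sigma.ι_desc_assoc, hc.fac]
        rfl)
      (fun s m hm => hc.hom_ext fun n => by
        rw [hc.fac]
        show c.ι.app n ≫ m = Sigma.ι (tK F) ⟨n⟩ ≫ s.π
        rw [← hm]
        show c.ι.app n ≫ m = Sigma.ι (tK F) ⟨n⟩ ≫ tDesc c ≫ m
        rw [tDesc, Sigma.ι_desc_assoc])
  haveI : Epi (tSeq c).g := Cofork.IsColimit.epi hk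
  exact ⟨ShortComplex.exact_of_g_is_cokernel _ hk⟩

end Telescope

include hP in
theorem LocClass.of_isColimit_nat {F : ℕ ⥤ DRing.Cx A} (c : Cocone F) (hc : IsColimit c)
    (h : ∀ n, P (DerivedCategory.Q.obj (F.obj n))) : P (DerivedCategory.Q.obj c.pt) := by
  have hS := DerivedCategory.triangleOfSES_distinguished (shortExact_tSeq c hc)
  have hs : P (DerivedCategory.Q.obj (∐ tK F)) := hP.sigma _ fun i => h i.down
  exact hP.middle _ (rot_of_distTriang _ hS) hs (hP.shift 1 hs)

include hP in
/-- Every object of the derived category lies in a localising class containing the unit. -/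
theorem LocClass.all (K : Dual.D A) : P K := by
  refine hP.iso (reprIso K) ?_
  show P (DerivedCategory.Q.obj ((res (covF A) (covFπ A)).obj (DerivedCategory.Q.objPreimage K)))
  refine hP.of_isColimit_nat (colimit.cocone _) (colimit.isColimit _) fun i => ?_
  induction i with
  | zero =>
    refine hP.toThickClass.of_isZero (DerivedCategory.Q.map_isZero ?_)
    rw [IsZero.iff_id_eq_zero]
    exact HomologicalComplex.hom_ext _ _ fun n => (isZero_zero (ModuleCat.{u} A)).eq_of_src _ _
  | succ i ih =>
    exact hP.middle _ (rot_of_distTriang _ (DerivedCategory.mappingCone_triangle_distinguished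
      (KFlat.attach (covO (covF A)) (covπ (covF A) (covFπ A))
        (st (covF A) (covFπ A) (DerivedCategory.Q.objPreimage K) i)))) ih
      (hP.shift 1 (hP.zeroDiff_free _))

end Groth.Agent.DTenLib
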