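import Groth.Agent.DTenLib.BaseHomFive
import Groth.Agent.DTenLib.EvalHomPC
import Groth.Agent.DTenLib.EvalTen
import Groth.Agent.DTenLib.Generation
import Groth.Agent.DRingLib.CompactObj
import Groth.Agent.DRingLib.TorDim

/-!
# Base change of `RHom` along perfect and finite tor dimension algebras
-/

set_option autoImplicit false
set_option linter.style.haveILetI false
set_option linter.unusedSectionVars false
set_option backward.isDefEq.respectTransparency false

universe u

open CategoryTheory Limits MonoidalCategory Pretriangulated DTen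
attribute [local instance] HasDerivedCategory.standard

noncomputable section

namespace Groth.Agent.DTenLib

open Groth.Agent.DRingLib

theorem subsingleton_unit_shift_hom_of_isGE {A : Type u} [CommRing A] {Z : Dual.D A} {c : ℤ}
    (hZ : DerivedCategory.IsGE Z c) (j : ℤ) (h : -j < c) : Subsingleton ((unit A)⟦j⟧ ⟶ Z) := by
  haveI := hZ
  haveI h0 : DerivedCategory.IsLE (unit A) 0 :=
    haveI : (Dual.inD A A).IsLE 0 :=
      inferInstanceAs (DerivedCategory.IsLE ((DerivedCategory.singleFunctor (ModuleCat.{u} A) 0).obj _) 0)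
    DerivedCategory.TStructure.t.isLE_of_iso (unitInD (A := A)).symm 0
  haveI := DerivedCategory.TStructure.t.isLE_shift (unit A) 0 j (-j) (by omega)
  exact subsingleton_of_forall_eq 0 fun f =>
    DerivedCategory.TStructure.t.zero_of_isLE_of_isGE f (-j) c h inferInstance hZ

theorem isGE_LTen {A : Type u} [CommRing A] [HasLTen A] {P Z : Dual.D A} {a b c : ℤ}
    (hP : DRing.HasTorAmplitudeIn A a b P) (hZ : DerivedCategory.IsGE Z c) :
    DerivedCategory.IsGE ((LTen₂ A).obj (P, Z)) (a + c) := by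
  obtain ⟨E, hE, hflat, ⟨e⟩⟩ := hP
  haveI := hZ
  obtain ⟨T, hT, ⟨eT⟩⟩ := DerivedCategory.exists_iso_Q_obj_of_isGE Z c
  haveI := isIso_ε_left E T (isKFlat_of_vanishesAbove (b := b) (fun j hj => hE j (Or.inr hj)) hflat)
  let i : (LTen₂ A).obj (P, Z) ≅ DerivedCategory.Q.obj (E ⊗ T : DRing.Cx A) :=
    (LTen₂ A).mapIso (Iso.prod e.symm eT) ≪≫ asIso ((ε A).app (E, T))
  haveI : CochainComplex.IsStrictlyGE (E ⊗ T : DRing.Cx A) (a + c) :=
    (CochainComplex.isStrictlyGE_iff _ _).2 fun n hn => by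
      rw [IsZero.iff_id_eq_zero]
      refine HomologicalComplex.mapBifunctor.hom_ext fun p q h => ?_
      have h' : p + q = n := h
      refine IsZero.eq_of_src ?_ _ _
      rcases lt_or_ge p a with hp | hp
      · exact ((curriedTensor (ModuleCat.{u} A)).flip.obj (T.X q)).map_isZero (hE p (Or.inl hp))
      · exact ((curriedTensor (ModuleCat.{u} A)).obj (E.X p)).map_isZero
          ((CochainComplex.isStrictlyGE_iff T c).1 hT q (by omega))
  haveI : DerivedCategory.IsGE (DerivedCategory.Q.obj (E ⊗ T : DRing.Cx A)) (a + c) := by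
    refine (DerivedCategory.isGE_iff _ _).2 fun j hj => ?_
    exact ((HomologicalComplex.exactAt_iff_isZero_homology (E ⊗ T : DRing.Cx A) j).1
      (ShortComplex.exact_of_isZero_X₂ ((E ⊗ T : DRing.Cx A).sc j)
      ((CochainComplex.isStrictlyGE_iff (E ⊗ T : DRing.Cx A) (a + c)).1 inferInstance j hj))).of_iso
        ((DerivedCategory.homologyFunctorFactors _ j).app _)
  exact DerivedCategory.TStructure.t.isGE_of_iso i.symm (a + c)

theorem evalTen_RHomMap {A : Type u} [CommRing A] [HasLTen A] [HasLTen₃ A] [IsSymMonoidal A] [HasRHom A]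
    (P L : Dual.D A) {K K₁ : Dual.D A} (k : K ⟶ K₁) :
    tmap (𝟙 P) (RHomMap k L) ≫ evalTen P L K = evalTen P L K₁ ≫ RHomMap k ((LTen₂ A).obj (P, L)) := by
  apply (rhomHomEquiv _ K _).symm.injective
  rw [symm_comp_RHomMap, symm_eq, symm_eq]
  have hK : tmap (evalTen P L K) (𝟙 K) ≫ ev K _ = evalTenAux P L K := evalTen_fac P L K
  have hK₁ : tmap (evalTen P L K₁) (𝟙 K₁) ≫ ev K₁ _ = evalTenAux P L K₁ := evalTen_fac P L K₁
  rw [hK₁, show tmap (tmap (𝟙 P) (RHomMap k L) ≫ evalTen P L K) (𝟙 K) =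
    tmap (tmap (𝟙 P) (RHomMap k L)) (𝟙 K) ≫ tmap (evalTen P L K) (𝟙 K) by rw [tmap_comp, Category.comp_id],
    Category.assoc, hK, evalTenAux, evalTenAux, ← Category.assoc, associator_naturality, ← tmap_id P,
    ← Category.assoc (tmap (tmap (𝟙 P) (𝟙 _)) k), associator_naturality, Category.assoc, Category.assoc,
    tmap_comp, tmap_comp]
  exact congrArg (fun w => _ ≫ tmap (𝟙 P ≫ 𝟙 P) w) (RHom_map_ev k L)

section Cases

variable {R R' : Type u} [CommRing R] [CommRing R'] {φ : R →+* R'}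
  [HasLTen R] [HasLTen R'] [HasLBase φ] [HasResTen φ] [ResLegIso φ]
  [HasLTen₃ R] [HasLTen₃ R'] [IsSymMonoidal R] [IsSymMonoidal R'] [HasRHom R] [HasRHom R']

theorem isGE_resBase {a b c : ℤ} (hP : DRing.HasTorAmplitudeIn R a b ((DRing.restrictD φ).obj (unit R')))
    {Z : Dual.D R} (hZ : DerivedCategory.IsGE Z c) :
    DerivedCategory.IsGE ((DRing.restrictD φ).obj ((LBase φ).obj Z)) (a + c) := by
  haveI : DerivedCategory.TStructure.t.IsGE
      (((LTen R).obj ((DRing.restrictD φ).obj (unit R'))).obj Z) (a + c) := isGE_LTen hP hZ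
  exact DerivedCategory.TStructure.t.isGE_of_iso ((baseResIso φ).app Z) (a + c)

theorem bijGam_of_isLE {a b : ℤ} (hP : DRing.HasTorAmplitudeIn R a b ((DRing.restrictD φ).obj (unit R')))
    {M C : Dual.D R} {n m : ℤ} (hM : DerivedCategory.IsGE M n) (hC : DerivedCategory.IsLE C m) (j : ℤ)
    (h : -j < a + n - m) : BijGam φ M C j := by
  haveI : Subsingleton ((unit R)⟦j⟧ ⟶ (DRing.restrictD φ).obj ((LBase φ).obj ((RHomR R C).obj M))) :=
    subsingleton_unit_shift_hom_of_isGE (isGE_resBase hP (isGE_RHom hC hM)) j (by omega)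
  haveI : Subsingleton ((unit R)⟦j⟧ ⟶ (RHomR R C).obj ((DRing.restrictD φ).obj ((LBase φ).obj M))) :=
    subsingleton_unit_shift_hom_of_isGE (isGE_RHom hC (isGE_resBase hP hM)) j (by omega)
  exact ⟨fun _ _ _ => Subsingleton.elim _ _, fun ψ => ⟨0, Subsingleton.elim _ _⟩⟩

theorem isIso_bcRHom_pc {a b : ℤ} (hP : DRing.HasTorAmplitudeIn R a b ((DRing.restrictD φ).obj (unit R')))
    {K M : Dual.D R} [IsIso (rhomBC φ K ((LBase φ).obj M))] (hK : DRing.IsPseudoCoherent' R K) (n : ℤ)
    (hM : DerivedCategory.IsGE M n) : IsIso (bcRHom φ K M) := by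
  refine isIso_bcRHom_of_bij fun j => ?_
  obtain ⟨m, hm⟩ : ∃ m, m = a + n + j - 1 := ⟨_, rfl⟩
  obtain ⟨E, α, ⟨⟨p, q, hE⟩, hEf⟩, ⟨D, g, d, hT, hD⟩⟩ := (isPseudoCoherent'_iff K).1 hK m
  have hPe : DRing.IsPerfect R (DRing.toD E) :=
    ⟨E, p, q, hE, fun i => fFree_imp_fProj (hEf i), ⟨Iso.refl _⟩⟩
  have hP' := ThickClass.of_isPerfect (BijGamShift.thick (φ := φ) (M := M)) hPe
  have hD' : DerivedCategory.IsLE D (m - 1) := isLE_of_aboveZero hD
  haveI := hD'
  exact BijGam.middle _ hT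
    (bijGam_of_isLE hP hM (DerivedCategory.TStructure.t.isLE_shift D (m - 1) (-1) m (by omega)) j (by omega))
    ((hP' 0 j).of_iso ((shiftFunctorZero (Dual.D R) ℤ).app _))
    (bijGam_of_isLE hP hM hD' j (by omega))
    (hP' 1 j)

/-- For a perfect restricted unit, restriction after base change of `RHom(-, M)` is again an `RHom`. -/
def resBaseRHomIso (hP : DRing.IsPerfect R ((DRing.restrictD φ).obj (unit R'))) (K M : Dual.D R) :
    (DRing.restrictD φ).obj ((LBase φ).obj ((RHomR R K).obj M)) ≅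
      (RHomR R K).obj ((LTen₂ R).obj ((DRing.restrictD φ).obj (unit R'), M)) :=
  ((baseResIso φ).app _).symm ≪≫ @asIso _ _ _ _ (evalTen _ M K) (isIso_evalTen M K hP)

theorem resBaseRHomIso_natural (hP : DRing.IsPerfect R ((DRing.restrictD φ).obj (unit R'))) {K K₁ : Dual.D R}
    (k : K ⟶ K₁) (M : Dual.D R) :
    resBase φ k M ≫ (resBaseRHomIso hP K M).hom = (resBaseRHomIso hP K₁ M).hom ≫ RHomMap k _ := by
  show (LBase φ ⋙ DRing.restrictD φ).map (RHomMap k M) ≫ (baseResIso φ).inv.app _ ≫ evalTen _ M K =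
    ((baseResIso φ).inv.app _ ≫ evalTen _ M K₁) ≫ _
  rw [(baseResIso φ).inv.naturality_assoc, Category.assoc]
  exact congrArg ((baseResIso φ).inv.app _ ≫ ·) (evalTen_RHomMap _ M k)

theorem RHom_sigma_ext {κ : Type u} (K : κ → DRing.Cx R) {X W : Dual.D R}
    (f f' : X ⟶ (RHomR R (DerivedCategory.Q.obj (∐ K))).obj W)
    (h : ∀ k, f ≫ RHomMap (DerivedCategory.Q.map (Sigma.ι K k)) W =
      f' ≫ RHomMap (DerivedCategory.Q.map (Sigma.ι K k)) W) : f = f' := by
  obtain ⟨hQ⟩ := nonempty_isColimit_Q_cofan (coproductIsCoproduct K)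
  haveI := (rhomAdj R X).leftAdjoint_preservesColimits
  haveI : PreservesColimitsOfShape (Discrete κ) ((LTen R).obj X) :=
    preservesColimitsOfShape_of_natIso (tensorLeftIso X)
  apply (rhomHomEquiv X _ W).symm.injective
  refine (isColimitOfPreserves ((LTen R).obj X) hQ).hom_ext fun k => ?_
  obtain ⟨k⟩ := k
  have hk := congrArg (rhomHomEquiv X (DerivedCategory.Q.obj (K k)) W).symm (h k)
  rw [symm_comp_RHomMap, symm_comp_RHomMap] at hk
  exact hk

theorem exists_RHom_sigma {κ : Type u} (K : κ → DRing.Cx R) {X W : Dual.D R}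
    (χ : ∀ k, X ⟶ (RHomR R (DerivedCategory.Q.obj (K k))).obj W) :
    ∃ f : X ⟶ (RHomR R (DerivedCategory.Q.obj (∐ K))).obj W,
      ∀ k, f ≫ RHomMap (DerivedCategory.Q.map (Sigma.ι K k)) W = χ k := by
  obtain ⟨hQ⟩ := nonempty_isColimit_Q_cofan (coproductIsCoproduct K)
  haveI := (rhomAdj R X).leftAdjoint_preservesColimits
  haveI : PreservesColimitsOfShape (Discrete κ) ((LTen R).obj X) :=
    preservesColimitsOfShape_of_natIso (tensorLeftIso X)
  let hc := isColimitOfPreserves ((LTen R).obj X) hQ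
  let s : Cocone (Discrete.functor (fun k => DRing.toD (K k)) ⋙ (LTen R).obj X) :=
    Cocone.mk W (Discrete.natTrans fun k => (rhomHomEquiv X _ W).symm (χ k.as))
  refine ⟨rhomHomEquiv X _ W (hc.desc s), fun k => ?_⟩
  rw [homEquiv_comp_RHomMap]
  exact (congrArg (rhomHomEquiv X _ W) (hc.fac s ⟨k⟩)).trans (Equiv.apply_symm_apply _ _)

theorem bijGam_sigma (hP : DRing.IsPerfect R ((DRing.restrictD φ).obj (unit R'))) {M : Dual.D R} {κ : Type u}
    (K : κ → DRing.Cx R) (n : ℤ) (h : ∀ k, BijGam φ M (DerivedCategory.Q.obj (K k)) n) :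
    BijGam φ M (DerivedCategory.Q.obj (∐ K)) n := by
  let e := fun C : Dual.D R => resBaseRHomIso hP C M
  have nat : ∀ {C C₁ : Dual.D R} (c : C ⟶ C₁), resBase φ c M ≫ (e C).hom = (e C₁).hom ≫ RHomMap c _ :=
    fun c => resBaseRHomIso_natural hP c M
  constructor
  · intro f f' hf
    refine (cancel_mono (e _).hom).1 (RHom_sigma_ext K _ _ fun k => ?_)
    rw [Category.assoc, Category.assoc, ← nat, ← Category.assoc, ← Category.assoc]
    refine congrArg (· ≫ (e _).hom) ((h k).1 ?_)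
    show (f ≫ _) ≫ gam φ _ M = (f' ≫ _) ≫ gam φ _ M
    rw [resBase_gam, resBase_gam, show f ≫ gam φ _ M = f' ≫ gam φ _ M from hf]
  · intro ψ
    choose a ha using fun k => (h k).2 (ψ ≫ RHomMap (DerivedCategory.Q.map (Sigma.ι K k)) _)
    obtain ⟨f, hf⟩ := exists_RHom_sigma K fun k => a k ≫ (e _).hom
    refine ⟨f ≫ (e _).inv, RHom_sigma_ext K _ _ fun k => ?_⟩
    rw [← resBase_gam]
    refine Eq.trans (congrArg (· ≫ gam φ _ M) ?_) (ha k)
    rw [← cancel_mono (e _).hom, Category.assoc, nat, Category.assoc, Iso.inv_hom_id_assoc, hf]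

theorem isIso_bcRHom_perfectBase (hP : DRing.IsPerfect R ((DRing.restrictD φ).obj (unit R'))) (K M : Dual.D R)
    [IsIso (rhomBC φ K ((LBase φ).obj M))] : IsIso (bcRHom φ K M) := by
  refine isIso_bcRHom_of_bij fun n => ?_
  refine (LocClass.all (P := BijGamShift φ M) { BijGamShift.thick with sigma := fun {κ} Kf hK m j => ?_ } K 0 n).of_iso
    ((shiftFunctorZero (Dual.D R) ℤ).app K)
  exact (bijGam_sigma hP _ j fun k => (hK k m j).of_iso ((DerivedCategory.Q.commShiftIso m).app _).symm).of_iso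
    (DerivedCategory.Q.mapIso (PreservesCoproduct.iso (CategoryTheory.shiftFunctor (DRing.Cx R) m) Kf).symm ≪≫
      (DerivedCategory.Q.commShiftIso m).app _)

end Cases

/-- The restricted unit of an algebra is the algebra in degree zero. -/
theorem nonempty_resUnit_iso (R R' : Type u) [CommRing R] [CommRing R'] [Algebra R R'] :
    Nonempty ((DRing.restrictD (algebraMap R R')).obj (unit R') ≅ Dual.inD R R') := by
  let e : (ModuleCat.restrictScalars.{u} (algebraMap R R')).obj (ModuleCat.of R' R') ≅ ModuleCat.of R R' :=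
    LinearEquiv.toModuleIso
      (show ↥((ModuleCat.restrictScalars.{u} (algebraMap R R')).obj (ModuleCat.of R' R')) ≃ₗ[R] R' from
        AddEquiv.toLinearEquiv (AddEquiv.refl R') fun r x =>
          (Algebra.smul_def r (show R' from x)).symm)
  exact ⟨(resFactors (algebraMap R R')).app _ ≪≫ DerivedCategory.Q.mapIso
    ((HomologicalComplex.singleMapHomologicalComplex (ModuleCat.restrictScalars.{u} (algebraMap R R'))
      (ComplexShape.up ℤ) 0).app _ ≪≫ (HomologicalComplex.single (ModuleCat.{u} R) (ComplexShape.up ℤ) 0).mapIso e) ≪≫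
    singleQZeroIso (ModuleCat.of R R')⟩

theorem amp_resUnit (R R' : Type u) [CommRing R] [CommRing R'] [Algebra R R'] (h : DRing.HasFiniteTorDim R R') :
    ∃ a b : ℤ, DRing.HasTorAmplitudeIn R a b ((DRing.restrictD (algebraMap R R')).obj (unit R')) := by
  obtain ⟨d, hd⟩ := h
  obtain ⟨i⟩ := nonempty_resUnit_iso R R'
  exact ⟨-(d : ℤ), 0, amp_of_iso i.symm ((hasTorDimLE_iff_amp d R').1 hd)⟩

theorem amp_resUnit_flat (R R' : Type u) [CommRing R] [CommRing R'] [Algebra R R'] [Module.Flat R R'] :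
    DRing.HasTorAmplitudeIn R 0 0 ((DRing.restrictD (algebraMap R R')).obj (unit R')) := by
  obtain ⟨i⟩ := nonempty_resUnit_iso R R'
  exact amp_of_iso i.symm (amp_inD_of_flat (ModuleCat.of R R') ‹Module.Flat R R'›)

theorem isPerfect_resUnit (R R' : Type u) [CommRing R] [CommRing R'] [Algebra R R']
    (h : DRing.IsPerfectModule R R') : DRing.IsPerfect R ((DRing.restrictD (algebraMap R R')).obj (unit R')) := by
  obtain ⟨i⟩ := nonempty_resUnit_iso R R'
  obtain ⟨E, a, b, hE, hp, ⟨e⟩⟩ := h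
  exact ⟨E, a, b, hE, hp, ⟨e ≪≫ i.symm⟩⟩

end Groth.Agent.DTenLib
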