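import Groth.Agent.DTenLib.BaseHom

/-!
# The five lemma for the base change map of `RHom`
-/

set_option autoImplicit false
set_option linter.style.haveILetI false
set_option linter.unusedSectionVars false
set_option backward.isDefEq.respectTransparency false

universe u

open CategoryTheory Limits MonoidalCategory Pretriangulated DTen
attribute [local instance] HasDerivedCategory.standard

noncomputable section

namespace Groth.Agent.DTenLib

variable {R R' : Type u} [CommRing R] [CommRing R'] (φ : R →+* R')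
  [HasLTen R] [HasLTen R'] [HasLBase φ] [HasResTen φ] [ResLegIso φ]
  [HasLTen₃ R] [HasLTen₃ R'] [IsSymMonoidal R] [IsSymMonoidal R'] [HasRHom R] [HasRHom R']

theorem RHomMap_comp {L₁ L₂ L₃ : Dual.D R} (f : L₁ ⟶ L₂) (g : L₂ ⟶ L₃) (M : Dual.D R) :
    RHomMap g M ≫ RHomMap f M = RHomMap (f ≫ g) M := by
  rw [RHomMap, RHomMap, RHomMap, ← NatTrans.comp_app, ← Functor.map_comp]
  rfl

/-- Restriction after base change of a map induced by `RHom`. -/
abbrev resBase {K K₁ : Dual.D R} (k : K ⟶ K₁) (M : Dual.D R) :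
    (DRing.restrictD φ).obj ((LBase φ).obj ((RHomR R K₁).obj M)) ⟶
      (DRing.restrictD φ).obj ((LBase φ).obj ((RHomR R K).obj M)) :=
  (DRing.restrictD φ).map ((LBase φ).map (RHomMap k M))

theorem resBase_comp {K₁ K₂ K₃ : Dual.D R} (f : K₁ ⟶ K₂) (g : K₂ ⟶ K₃) (M : Dual.D R) :
    resBase φ g M ≫ resBase φ f M = resBase φ (f ≫ g) M := by
  simp only [resBase, ← Functor.map_comp, RHomMap_comp]

theorem RHomMap_id (K M : Dual.D R) : RHomMap (𝟙 K) M = 𝟙 _ := by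
  rw [RHomMap, op_id, CategoryTheory.Functor.map_id]
  rfl

theorem resBase_id (K M : Dual.D R) : resBase φ (𝟙 K) M = 𝟙 _ := by
  rw [resBase, RHomMap_id, CategoryTheory.Functor.map_id, CategoryTheory.Functor.map_id]

theorem additive_resBaseFun : (LBase φ ⋙ DRing.restrictD φ).Additive := by
  haveI := additive_tensorLeft (A := R) ((DRing.restrictD φ).obj (unit R'))
  exact Functor.additive_of_iso (baseResIso φ)

theorem resBase_zero (K K₁ M : Dual.D R) : resBase φ (0 : K ⟶ K₁) M = 0 := by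
  haveI := additive_resBaseFun φ
  rw [resBase, RHomMap_zero]
  exact (LBase φ ⋙ DRing.restrictD φ).map_zero _ _

theorem exists_resBase_factor {T : Triangle (Dual.D R)} (hT : T ∈ distTriang (Dual.D R)) {M X : Dual.D R}
    (f : X ⟶ (DRing.restrictD φ).obj ((LBase φ).obj ((RHomR R T.obj₂).obj M)))
    (hf : f ≫ resBase φ T.mor₁ M = 0) :
    ∃ e, e ≫ resBase φ T.mor₂ M = f := by
  let π := baseResIso φ
  obtain ⟨C, g, d, hC⟩ := distinguished_cocone_triangle₁ (RHomMap T.mor₁ M)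
  obtain ⟨ψ, hψ⟩ := homExact_tensorLeft ((DRing.restrictD φ).obj (unit R')) X _ hC (f ≫ π.inv.app _) (by
    show (f ≫ π.inv.app _) ≫ ((LTen R).obj _).map (RHomMap T.mor₁ M) = 0
    rw [Category.assoc, ← π.inv.naturality, ← Category.assoc]
    exact (congrArg (· ≫ π.inv.app _) hf).trans zero_comp)
  obtain ⟨v, hv⟩ := exists_RHomMap_factor hT g (comp_distTriang_mor_zero₁₂ _ hC)
  refine ⟨ψ ≫ π.hom.app C ≫ (LBase φ ⋙ DRing.restrictD φ).map v, ?_⟩
  show (ψ ≫ π.hom.app C ≫ (LBase φ ⋙ DRing.restrictD φ).map v) ≫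
    (LBase φ ⋙ DRing.restrictD φ).map (RHomMap T.mor₂ M) = f
  rw [Category.assoc, Category.assoc, ← Functor.map_comp, hv, ← π.hom.naturality, ← Category.assoc]
  exact (congrArg (· ≫ π.hom.app _) hψ).trans ((Category.assoc _ _ _).trans
    ((congrArg (f ≫ ·) (π.inv_hom_id_app _)).trans (Category.comp_id f)))

/-- Bijectivity of the base change map on maps out of a shift of the unit. -/
def BijGam (M K : Dual.D R) (n : ℤ) : Prop :=
  Function.Bijective fun f : (unit R)⟦n⟧ ⟶ (DRing.restrictD φ).obj ((LBase φ).obj ((RHomR R K).obj M)) =>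
    f ≫ gam φ K M

variable {φ} {M : Dual.D R}

theorem resBase_gam {K K₁ : Dual.D R} (k : K ⟶ K₁) {X : Dual.D R}
    (f : X ⟶ (DRing.restrictD φ).obj ((LBase φ).obj ((RHomR R K₁).obj M))) :
    (f ≫ resBase φ k M) ≫ gam φ K M =
      (f ≫ gam φ K₁ M) ≫ RHomMap k ((DRing.restrictD φ).obj ((LBase φ).obj M)) := by
  rw [Category.assoc, Category.assoc, gam_natural]

theorem BijGam.of_retract {K K₁ : Dual.D R} {n : ℤ} (r : Retract K K₁) (h : BijGam φ M K₁ n) :
    BijGam φ M K n := by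
  constructor
  · intro f f' hf
    have hf' : f ≫ gam φ K M = f' ≫ gam φ K M := hf
    have h' : f ≫ resBase φ r.r M = f' ≫ resBase φ r.r M := h.1 (by
      show (f ≫ _) ≫ gam φ K₁ M = (f' ≫ _) ≫ gam φ K₁ M
      rw [resBase_gam, resBase_gam, hf'])
    have h'' := congrArg (· ≫ resBase φ r.i M) h'
    simp only [Category.assoc, resBase_comp, r.retract, resBase_id, Category.comp_id] at h''
    exact h''
  · intro f
    obtain ⟨a, ha⟩ := h.2 (f ≫ RHomMap r.r _)
    refine ⟨a ≫ resBase φ r.i M, ?_⟩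
    show (a ≫ resBase φ r.i M) ≫ gam φ K M = f
    rw [resBase_gam, show a ≫ gam φ K₁ M = _ from ha, Category.assoc, RHomMap_comp, r.retract, RHomMap_id,
      Category.comp_id]

theorem BijGam.of_iso {K K₁ : Dual.D R} {n : ℤ} (e : K ≅ K₁) (h : BijGam φ M K n) : BijGam φ M K₁ n :=
  h.of_retract ⟨e.inv, e.hom, e.inv_hom_id⟩

/-- The five lemma. -/
theorem BijGam.middle {n : ℤ} (T : Triangle (Dual.D R)) (hT : T ∈ distTriang (Dual.D R))
    (h₀ : BijGam φ M T.invRotate.obj₁ n) (h₁ : BijGam φ M T.obj₁ n) (h₃ : BijGam φ M T.obj₃ n)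
    (h₄ : BijGam φ M T.rotate.obj₃ n) : BijGam φ M T.obj₂ n := by
  let W := (DRing.restrictD φ).obj ((LBase φ).obj M)
  let g₀ : T.invRotate.obj₁ ⟶ T.obj₁ := T.invRotate.mor₁
  have z₀ : g₀ ≫ T.mor₁ = 0 := comp_distTriang_mor_zero₁₂ _ (inv_rot_of_distTriang T hT)
  have z₁ : T.mor₁ ≫ T.mor₂ = 0 := comp_distTriang_mor_zero₁₂ T hT
  have z₂ : T.mor₂ ≫ T.mor₃ = 0 := comp_distTriang_mor_zero₂₃ T hT
  constructor
  · suffices h : ∀ f, f ≫ gam φ T.obj₂ M = 0 → (f : (unit R)⟦n⟧ ⟶ _) = 0 by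
      intro f f' hf
      exact sub_eq_zero.1 (h _ (by rw [Preadditive.sub_comp]; exact sub_eq_zero.2 hf))
    intro f hf
    have e1 : f ≫ resBase φ T.mor₁ M = 0 := h₁.1 (by
      show (f ≫ _) ≫ gam φ T.obj₁ M = 0 ≫ gam φ T.obj₁ M
      rw [resBase_gam, hf, zero_comp, zero_comp])
    obtain ⟨a, ha⟩ := exists_resBase_factor φ hT f e1
    have e2 : (a ≫ gam φ T.obj₃ M) ≫ RHomMap T.mor₂ W = 0 := by rw [← resBase_gam, ha, hf]
    obtain ⟨χ, hχ⟩ := exists_RHomMap_factor (rot_of_distTriang T hT) (a ≫ gam φ T.obj₃ M) e2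
    obtain ⟨χ', hχ'⟩ := h₄.2 χ
    have e3 : χ' ≫ resBase φ T.rotate.mor₂ M = a := h₃.1 (by
      show (χ' ≫ _) ≫ gam φ T.obj₃ M = _
      exact (resBase_gam _ _).trans ((congrArg (· ≫ _) hχ').trans hχ))
    have e4 : resBase φ T.rotate.mor₂ M ≫ resBase φ T.mor₂ M = 0 := by
      refine (resBase_comp φ T.mor₂ T.mor₃ M).trans ?_
      rw [z₂, resBase_zero]
    rw [← ha, ← e3, Category.assoc]
    exact (congrArg (χ' ≫ ·) e4).trans comp_zero
  · intro ψ
    obtain ⟨a, ha⟩ := h₁.2 (ψ ≫ RHomMap T.mor₁ W)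
    have ha' : a ≫ gam φ T.obj₁ M = ψ ≫ RHomMap T.mor₁ W := ha
    have e1 : a ≫ resBase φ g₀ M = 0 := h₀.1 (by
      show (a ≫ _) ≫ gam φ T.invRotate.obj₁ M = 0 ≫ gam φ T.invRotate.obj₁ M
      rw [resBase_gam, ha', Category.assoc, RHomMap_comp, z₀, RHomMap_zero, comp_zero, zero_comp])
    obtain ⟨c, hc⟩ := exists_resBase_factor φ (inv_rot_of_distTriang T hT) a e1
    let c' : (unit R)⟦n⟧ ⟶ (DRing.restrictD φ).obj ((LBase φ).obj ((RHomR R T.obj₂).obj M)) := c
    have hc' : c' ≫ resBase φ T.mor₁ M = a := hc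
    have e2 : (ψ - c' ≫ gam φ T.obj₂ M) ≫ RHomMap T.mor₁ W = 0 := by
      rw [Preadditive.sub_comp, ← resBase_gam, hc', ha', sub_self]
    obtain ⟨e, he⟩ := exists_RHomMap_factor hT _ e2
    obtain ⟨e', he'⟩ := h₃.2 e
    refine ⟨c' + e' ≫ resBase φ T.mor₂ M, ?_⟩
    show (c' + e' ≫ resBase φ T.mor₂ M) ≫ gam φ T.obj₂ M = ψ
    rw [Preadditive.add_comp, resBase_gam, show e' ≫ gam φ T.obj₃ M = e from he', he]
    abel

theorem bijGam_shift_unit (k n : ℤ) : BijGam φ M ((unit R)⟦k⟧) n := by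
  haveI := isIso_gam_shift_unit φ k M
  exact ⟨fun _ _ h => (cancel_mono (gam φ ((unit R)⟦k⟧) M)).1 h,
    fun f => ⟨f ≫ inv (gam φ ((unit R)⟦k⟧) M), by simp⟩⟩

variable (φ M) in
/-- Bijectivity at all shifts. -/
def BijGamShift (K : Dual.D R) : Prop := ∀ m n : ℤ, BijGam φ M (K⟦m⟧) n

theorem BijGamShift.thick : ThickClass (BijGamShift φ M) where
  iso e h m n := (h m n).of_iso ((shiftFunctor _ m).mapIso e)
  retract r h m n := (h m n).of_retract (r.map (shiftFunctor _ m))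
  shift k h m n := (h (k + m) n).of_iso ((shiftFunctorAdd (Dual.D R) k m).app _)
  middle T hT h₁ h₃ m n :=
    BijGam.middle _ (Triangle.shift_distinguished T hT m)
      ((h₃ (m + -1) n).of_iso ((shiftFunctorAdd (Dual.D R) m (-1)).app _)) (h₁ m n) (h₃ m n)
      ((h₁ (m + 1) n).of_iso ((shiftFunctorAdd (Dual.D R) m 1).app _))
  unit m n := bijGam_shift_unit m n

theorem isIso_gam_of_bij {K : Dual.D R} (h : ∀ n, BijGam φ M K n) : IsIso (gam φ K M) := by
  refine isIso_of_bijective_unit _ fun j k => ?_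
  let G := Functor.FullyFaithful.ofFullyFaithful (CategoryTheory.shiftFunctor (Dual.D R) k)
  let i : ((unit R)⟦j - k⟧)⟦k⟧ ≅ (unit R)⟦j⟧ :=
    ((shiftFunctorAdd' (Dual.D R) (j - k) k j (by omega)).app _).symm
  let e : ∀ W : Dual.D R, ((unit R)⟦j - k⟧ ⟶ W) ≃ ((unit R)⟦j⟧ ⟶ W⟦k⟧) := fun W =>
    G.homEquiv.trans (Iso.homCongr i (Iso.refl _))
  suffices h' : (fun g : (unit R)⟦j⟧ ⟶ _ => g ≫ (gam φ K M)⟦k⟧') ∘ ⇑(e _) =
      ⇑(e _) ∘ fun g => g ≫ gam φ K M by
    exact (Function.Bijective.of_comp_iff _ (e _).bijective).1 (h' ▸ (e _).bijective.comp (h (j - k)))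
  funext g
  simp [e, G, Functor.FullyFaithful.homEquiv]

theorem isIso_bcRHom_of_bij {K : Dual.D R} [IsIso (rhomBC φ K ((LBase φ).obj M))]
    (h : ∀ n, BijGam φ M K n) : IsIso (bcRHom φ K M) :=
  isIso_bcRHom_of_gam φ K M (isIso_gam_of_bij h)

theorem isIso_bcRHom_perfect {K : Dual.D R} [IsIso (rhomBC φ K ((LBase φ).obj M))] (hK : DRing.IsPerfect R K) :
    IsIso (bcRHom φ K M) :=
  isIso_bcRHom_of_bij fun n => ((ThickClass.of_isPerfect BijGamShift.thick hK) 0 n).of_iso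
    ((shiftFunctorZero (Dual.D R) ℤ).app K)

end Groth.Agent.DTenLib
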