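import Groth.Agent.DTenLib.Base
import Groth.Agent.DTenLib.BaseFlat
import Groth.Agent.DTenLib.Assoc
import Groth.Agent.DTenLib.Closed
import Groth.Prelude.Def_DTen5
import Mathlib.Algebra.Category.ModuleCat.Monoidal.Adjunction

/-!
# Derived base change carries derived tensor products to derived tensor products

The comparison is the mate of the lax structure of restriction; hence restriction of `RHom` out of an extended object
is `RHom` out of the object.
-/

set_option autoImplicit false
set_option linter.style.haveILetI false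
set_option backward.isDefEq.respectTransparency false

universe u

open CategoryTheory Limits MonoidalCategory DTen
attribute [local instance] HasDerivedCategory.standard

noncomputable section

namespace Groth.Agent.DTenLib

variable {R R' : Type u} [CommRing R] [CommRing R'] (φ : R →+* R')

/-- The tensor product of extended modules. -/
abbrev extTen : ModuleCat.{u} R ⥤ ModuleCat.{u} R ⥤ ModuleCat.{u} R' :=
  ModuleCat.extendScalars.{u, u, u} φ ⋙ curriedTensor (ModuleCat.{u} R') ⋙
    (Functor.whiskeringLeft _ _ _).obj (ModuleCat.extendScalars.{u, u, u} φ)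

instance additive_extTen_obj (M : ModuleCat.{u} R) : ((extTen φ).obj M).Additive :=
  inferInstanceAs (ModuleCat.extendScalars.{u, u, u} φ ⋙
    (curriedTensor (ModuleCat.{u} R')).obj ((ModuleCat.extendScalars.{u, u, u} φ).obj M)).Additive

/-- Extension of scalars is monoidal. -/
def extTenIso : curriedTensor (ModuleCat.{u} R) ⋙
    (Functor.whiskeringRight _ _ _).obj (ModuleCat.extendScalars.{u, u, u} φ) ≅ extTen φ :=
  NatIso.ofComponents
    (fun M => NatIso.ofComponents
      (fun N => (Functor.Monoidal.μIso (ModuleCat.extendScalars.{u, u, u} φ) M N).symm)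
      fun {N N'} g => (Functor.OplaxMonoidal.δ_natural_right (F := ModuleCat.extendScalars.{u, u, u} φ) M g).symm)
    fun {M M'} f => by
      ext N : 2
      exact (Functor.OplaxMonoidal.δ_natural_left (F := ModuleCat.extendScalars.{u, u, u} φ) f N).symm

theorem extTenIso_hom_app (M N : ModuleCat.{u} R) :
    ((extTenIso φ).hom.app M).app N = Functor.OplaxMonoidal.δ (ModuleCat.extendScalars.{u, u, u} φ) M N := rfl

theorem unit_map_δ (M N : ModuleCat.{u} R) :
    (ModuleCat.extendRestrictScalarsAdj.{u, u, u} φ).unit.app (M ⊗ N) ≫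
        (ModuleCat.restrictScalars.{u} φ).map (Functor.OplaxMonoidal.δ (ModuleCat.extendScalars.{u, u, u} φ) M N) =
      ((ModuleCat.extendRestrictScalarsAdj.{u, u, u} φ).unit.app M ⊗ₘ
        (ModuleCat.extendRestrictScalarsAdj.{u, u, u} φ).unit.app N) ≫ resTen₀app φ _ _ :=
  ModuleCat.hom_ext (TensorProduct.ext' fun _ _ => rfl)

/-- The mate of the lax structure of restriction, on complexes. -/
def extTenCx (P T : DRing.Cx R) : (extCx φ).obj (P ⊗ T) ⟶ ((extCx φ).obj P ⊗ (extCx φ).obj T : DRing.Cx R') :=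
  ((extResAdjCx φ).homEquiv _ _).symm
    (((unitCx φ).app P ⊗ₘ (unitCx φ).app T) ≫ resTenCx φ ((extCx φ).obj P) ((extCx φ).obj T))

theorem unit_extTenCx (P T : DRing.Cx R) :
    (unitCx φ).app (P ⊗ T) ≫ (resCx φ).map (extTenCx φ P T) =
      ((unitCx φ).app P ⊗ₘ (unitCx φ).app T) ≫ resTenCx φ ((extCx φ).obj P) ((extCx φ).obj T) := by
  have h := ((extResAdjCx φ).homEquiv (P ⊗ T) _).apply_symm_apply
    (((unitCx φ).app P ⊗ₘ (unitCx φ).app T) ≫ resTenCx φ ((extCx φ).obj P) ((extCx φ).obj T))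
  rw [Adjunction.homEquiv_unit] at h
  exact h

theorem ι_extTenCx (P T : DRing.Cx R) (p q n : ℤ) (h : p + q = n) :
    (ModuleCat.extendScalars.{u, u, u} φ).map (HomologicalComplex.ιTensorObj P T p q n h) ≫ (extTenCx φ P T).f n =
      Functor.OplaxMonoidal.δ (ModuleCat.extendScalars.{u, u, u} φ) (P.X p) (T.X q) ≫
        HomologicalComplex.ιTensorObj ((extCx φ).obj P) ((extCx φ).obj T) p q n h := by
  apply ((ModuleCat.extendRestrictScalarsAdj.{u, u, u} φ).homEquiv _ _).injective
  rw [Adjunction.homEquiv_unit, Adjunction.homEquiv_unit, Functor.map_comp, Functor.map_comp, ← Category.assoc,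
    ← Category.assoc]
  erw [(ModuleCat.extendRestrictScalarsAdj.{u, u, u} φ).unit_naturality, unit_map_δ, Category.assoc, Category.assoc]
  have e : (ModuleCat.extendRestrictScalarsAdj.{u, u, u} φ).unit.app ((P ⊗ T : DRing.Cx R).X n) ≫
      (ModuleCat.restrictScalars.{u} φ).map ((extTenCx φ P T).f n) =
      (((unitCx φ).app P ⊗ₘ (unitCx φ).app T) ≫ resTenCx φ ((extCx φ).obj P) ((extCx φ).obj T)).f n :=
    congrArg (fun c : (P ⊗ T : DRing.Cx R) ⟶ _ => c.f n) (unit_extTenCx φ P T)
  refine (congrArg (_ ≫ ·) e).trans ?_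
  refine Eq.trans ?_ (congrArg (_ ≫ ·) (ι_resTenCx φ ((extCx φ).obj P) ((extCx φ).obj T) p q n h))
  erw [HomologicalComplex.comp_f, HomologicalComplex.ι_mapBifunctorMap_assoc]
  simp only [← Category.assoc]
  refine congrArg (· ≫ _) (congrArg (· ≫ _) ?_)
  exact (MonoidalCategory.tensorHom_def _ _).symm

theorem isIso_extTenCx (P T : DRing.Cx R) : IsIso (extTenCx φ P T) := by
  haveI : ∀ n, IsIso ((extTenCx φ P T).f n) := fun n => by
    haveI := KFlat.isIso_mapTotX (extTenIso φ) P T n
    have h : KFlat.mapTotX (extTenIso φ) P T n ≫ (extTenCx φ P T).f n = 𝟙 _ := by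
      refine HomologicalComplex.mapBifunctor.hom_ext fun p q h => ?_
      have h' : p + q = n := h
      rw [Category.comp_id, ← Category.assoc, KFlat.ι_mapTotX, Category.assoc]
      refine (congrArg (_ ≫ ·) (ι_extTenCx φ P T p q n h')).trans ?_
      rw [← extTenIso_hom_app, ← Category.assoc]
      refine (congrArg (· ≫ _) ?_).trans (Category.id_comp _)
      exact congr_app ((extTenIso φ).inv_hom_id_app (P.X p)) (T.X q)
    exact IsIso.of_isIso_fac_left h
  exact HomologicalComplex.Hom.isIso_of_components _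

variable [HasLTen R] [HasLTen R'] [HasLBase φ] [HasResTen φ] [ResLegIso φ]

theorem tmap_natural_resPF {E E₁ F F₁ : Dual.D R'} (f : E ⟶ E₁) (g : F ⟶ F₁) :
    tmap ((DRing.restrictD φ).map f) ((DRing.restrictD φ).map g) ≫ (resPF φ).app (E₁, F₁) =
      (resPF φ).app (E, F) ≫ (DRing.restrictD φ).map (tmap f g) :=
  (resPF φ).naturality (Prod.mkHom f g)

/-- The mate of the lax structure of derived restriction. -/
def baseδ (X K : Dual.D R) :
    (LBase φ).obj ((LTen₂ R).obj (X, K)) ⟶ (LTen₂ R').obj ((LBase φ).obj X, (LBase φ).obj K) :=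
  ((baseAdj φ).homEquiv _ _).symm
    (tmap ((baseAdj φ).unit.app X) ((baseAdj φ).unit.app K) ≫ (resPF φ).app ((LBase φ).obj X, (LBase φ).obj K))

theorem unit_baseδ (X K : Dual.D R) :
    (baseAdj φ).unit.app ((LTen₂ R).obj (X, K)) ≫ (DRing.restrictD φ).map (baseδ φ X K) =
      tmap ((baseAdj φ).unit.app X) ((baseAdj φ).unit.app K) ≫
        (resPF φ).app ((LBase φ).obj X, (LBase φ).obj K) := by
  have h := ((baseAdj φ).homEquiv ((LTen₂ R).obj (X, K)) _).apply_symm_apply
    (tmap ((baseAdj φ).unit.app X) ((baseAdj φ).unit.app K) ≫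
      (resPF φ).app ((LBase φ).obj X, (LBase φ).obj K))
  rw [Adjunction.homEquiv_unit] at h
  exact h

theorem baseδ_natural {X X' K K' : Dual.D R} (f : X ⟶ X') (g : K ⟶ K') :
    (LBase φ).map (tmap f g) ≫ baseδ φ X' K' = baseδ φ X K ≫ tmap ((LBase φ).map f) ((LBase φ).map g) := by
  apply ((baseAdj φ).homEquiv _ _).injective
  rw [Adjunction.homEquiv_unit, Adjunction.homEquiv_unit, Functor.map_comp, Functor.map_comp, ← Category.assoc,
    ← Category.assoc, (baseAdj φ).unit_naturality, unit_baseδ, Category.assoc, unit_baseδ, Category.assoc,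
    ← tmap_natural_resPF, ← Category.assoc, ← Category.assoc]
  refine congrArg (· ≫ _) ?_
  show tmap f g ≫ tmap ((baseAdj φ).unit.app X') ((baseAdj φ).unit.app K') = _
  rw [tmap_comp, tmap_comp]
  exact congrArg₂ tmap ((baseAdj φ).unit_naturality f).symm ((baseAdj φ).unit_naturality g).symm

theorem resPF_ε (Y Y' : DRing.Cx R') :
    (resPF φ).app (DerivedCategory.Q.obj Y, DerivedCategory.Q.obj Y') ≫ (DRing.restrictD φ).map ((ε R').app (Y, Y')) =
      tmap ((resFactors φ).hom.app Y) ((resFactors φ).hom.app Y') ≫ (ε R).app ((resCx φ).obj Y, (resCx φ).obj Y') ≫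
        DerivedCategory.Q.map (resTenCx φ Y Y') ≫ (resFactors φ).inv.app (Y ⊗ Y' : DRing.Cx R') := by
  rw [← cancel_mono ((resFactors φ).hom.app (Y ⊗ Y' : DRing.Cx R'))]
  simp only [Category.assoc, Iso.inv_hom_id_app, Category.comp_id]
  exact (Category.assoc _ _ _).symm.trans ((Category.assoc _ _ _).trans (resPF_fac φ (Y, Y')))

theorem unit_baseCmp (P : DRing.Cx R) :
    (baseAdj φ).unit.app (DerivedCategory.Q.obj P) ≫ (DRing.restrictD φ).map ((baseCmp φ).app P) =
      DerivedCategory.Q.map ((unitCx φ).app P) ≫ (resFactors φ).inv.app ((extCx φ).obj P) := baseCmp_fac φ P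

theorem unit_baseδ_Q (P T : DRing.Cx R) :
    (baseAdj φ).unit.app ((LTen₂ R).obj (DerivedCategory.Q.obj P, DerivedCategory.Q.obj T)) ≫
      (DRing.restrictD φ).map (baseδ φ (DerivedCategory.Q.obj P) (DerivedCategory.Q.obj T) ≫
        tmap ((baseCmp φ).app P) ((baseCmp φ).app T) ≫ (ε R').app ((extCx φ).obj P, (extCx φ).obj T)) =
      (ε R).app (P, T) ≫
        DerivedCategory.Q.map (((unitCx φ).app P ⊗ₘ (unitCx φ).app T) ≫
          resTenCx φ ((extCx φ).obj P) ((extCx φ).obj T)) ≫
        (resFactors φ).inv.app ((extCx φ).obj P ⊗ (extCx φ).obj T : DRing.Cx R') := by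
  have h : (resPF φ).app ((LBase φ).obj (DerivedCategory.Q.obj P), (LBase φ).obj (DerivedCategory.Q.obj T)) ≫
      (DRing.restrictD φ).map (tmap ((baseCmp φ).app P) ((baseCmp φ).app T)) =
      tmap ((DRing.restrictD φ).map ((baseCmp φ).app P)) ((DRing.restrictD φ).map ((baseCmp φ).app T)) ≫
        (resPF φ).app (DerivedCategory.Q.obj ((extCx φ).obj P), DerivedCategory.Q.obj ((extCx φ).obj T)) :=
    (tmap_natural_resPF φ _ _).symm
  rw [Functor.map_comp, Functor.map_comp, ← Category.assoc, unit_baseδ, Category.assoc]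
  erw [reassoc_of% h, resPF_ε]
  erw [← Category.assoc, tmap_comp, unit_baseCmp, unit_baseCmp, ← Category.assoc, tmap_comp]
  have e3 : tmap (DerivedCategory.Q.map ((unitCx φ).app P)) (DerivedCategory.Q.map ((unitCx φ).app T)) ≫
      (ε R).app ((resCx φ).obj ((extCx φ).obj P), (resCx φ).obj ((extCx φ).obj T)) =
      (ε R).app (P, T) ≫ DerivedCategory.Q.map ((unitCx φ).app P ⊗ₘ (unitCx φ).app T) := by
    rw [MonoidalCategory.tensorHom_def]
    exact (ε R).naturality (Prod.mkHom ((unitCx φ).app P) ((unitCx φ).app T))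
  simp only [Category.assoc, Iso.inv_hom_id_app, Category.comp_id, Functor.map_comp]
  erw [reassoc_of% e3]

theorem baseδ_Q (P T : DRing.Cx R) :
    baseδ φ (DerivedCategory.Q.obj P) (DerivedCategory.Q.obj T) ≫
        tmap ((baseCmp φ).app P) ((baseCmp φ).app T) ≫ (ε R').app ((extCx φ).obj P, (extCx φ).obj T) =
      (LBase φ).map ((ε R).app (P, T)) ≫ (baseCmp φ).app (P ⊗ T) ≫ DerivedCategory.Q.map (extTenCx φ P T) := by
  apply ((baseAdj φ).homEquiv _ _).injective
  rw [Adjunction.homEquiv_unit, Adjunction.homEquiv_unit, unit_baseδ_Q, Functor.map_comp (DRing.restrictD φ),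
    Functor.map_comp (DRing.restrictD φ)]
  have e4 : (baseAdj φ).unit.app ((LTen₂ R).obj (DerivedCategory.Q.obj P, DerivedCategory.Q.obj T)) ≫
      (DRing.restrictD φ).map ((LBase φ).map ((ε R).app (P, T))) =
        (ε R).app (P, T) ≫ (baseAdj φ).unit.app (DerivedCategory.Q.obj (P ⊗ T)) :=
    (baseAdj φ).unit_naturality _
  have e5 : (resFactors φ).inv.app ((extCx φ).obj (P ⊗ T)) ≫
      (DRing.restrictD φ).map (DerivedCategory.Q.map (extTenCx φ P T)) =
        DerivedCategory.Q.map ((resCx φ).map (extTenCx φ P T)) ≫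
          (resFactors φ).inv.app ((extCx φ).obj P ⊗ (extCx φ).obj T : DRing.Cx R') :=
    ((resFactors φ).inv.naturality (extTenCx φ P T)).symm
  rw [← unit_extTenCx, Functor.map_comp (DerivedCategory.Q)]
  refine Eq.symm ?_
  erw [reassoc_of% e4, reassoc_of% (unit_baseCmp φ (P ⊗ T))]
  exact congrArg ((ε R).app (P, T) ≫ ·)
    ((congrArg (DerivedCategory.Q.map ((unitCx φ).app (P ⊗ T)) ≫ ·) e5).trans (Category.assoc _ _ _).symm)

theorem isIso_baseδ (X K : Dual.D R) : IsIso (baseδ φ X K) := by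
  haveI := isIso_baseCmp_app φ (repr X) (isKFlat_repr X)
  haveI := isIso_baseCmp_app φ (repr K) (isKFlat_repr K)
  haveI := isIso_baseCmp_app φ (repr X ⊗ repr K) (isKFlat_tensor (isKFlat_repr X) (isKFlat_repr K))
  haveI := isIso_ε_right (repr X) (repr K) (isKFlat_repr K)
  haveI := isIso_ε_right ((extCx φ).obj (repr X)) ((extCx φ).obj (repr K)) (isKFlat_extCx φ (isKFlat_repr K))
  haveI := isIso_extTenCx φ (repr X) (repr K)
  haveI hQ : IsIso (baseδ φ (DerivedCategory.Q.obj (repr X)) (DerivedCategory.Q.obj (repr K))) := by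
    haveI : IsIso (tmap ((baseCmp φ).app (repr X)) ((baseCmp φ).app (repr K))) :=
      ((LTen₂ R').mapIso (Iso.prod (@asIso _ _ _ _ ((baseCmp φ).app (repr X)) ‹_›)
        (@asIso _ _ _ _ ((baseCmp φ).app (repr K)) ‹_›))).isIso_hom
    haveI : IsIso (baseδ φ (DerivedCategory.Q.obj (repr X)) (DerivedCategory.Q.obj (repr K)) ≫
        tmap ((baseCmp φ).app (repr X)) ((baseCmp φ).app (repr K)) ≫
          (ε R').app ((extCx φ).obj (repr X), (extCx φ).obj (repr K))) := by
      rw [baseδ_Q]; infer_instance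
    exact IsIso.of_isIso_comp_right _ (tmap ((baseCmp φ).app (repr X)) ((baseCmp φ).app (repr K)) ≫
      (ε R').app ((extCx φ).obj (repr X), (extCx φ).obj (repr K)))
  haveI : IsIso (tmap (reprIso X).hom (reprIso K).hom) :=
    ((LTen₂ R).mapIso (Iso.prod (reprIso X) (reprIso K))).isIso_hom
  haveI : IsIso (tmap ((LBase φ).map (reprIso X).hom) ((LBase φ).map (reprIso K).hom)) :=
    ((LTen₂ R').mapIso (Iso.prod ((LBase φ).mapIso (reprIso X)) ((LBase φ).mapIso (reprIso K)))).isIso_hom
  haveI : IsIso ((LBase φ).map (tmap (reprIso X).hom (reprIso K).hom) ≫ baseδ φ X K) := by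
    rw [baseδ_natural]; infer_instance
  exact IsIso.of_isIso_comp_left ((LBase φ).map (tmap (reprIso X).hom (reprIso K).hom)) _

variable [HasRHom R] [HasRHom R']

theorem rhomHomEquiv_comp (L : Dual.D R) {X Y M : Dual.D R} (f : X ⟶ Y) (g : (LTen₂ R).obj (Y, L) ⟶ M) :
    f ≫ rhomHomEquiv Y L M g = rhomHomEquiv X L M (tmap f (𝟙 L) ≫ g) :=
  ((rhomAdj R L).homEquiv_naturality_left f g).symm

theorem isIso_rhomBC (K : Dual.D R) (M : Dual.D R') : IsIso (rhomBC φ K M) := by
  refine isIso_of_bijective _ fun X => ?_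
  haveI := isIso_baseδ φ X K
  let K' := (LBase φ).obj K
  let a := ((baseAdj φ).homEquiv X ((RHomR R' K').obj M)).symm
  let b := (rhomHomEquiv ((LBase φ).obj X) K' M).symm
  let c := Iso.homFromEquiv (asIso (baseδ φ X K)).symm (Z := M)
  let d := ((baseAdj φ).homEquiv ((LTen₂ R).obj (X, K)) M).trans (rhomHomEquiv X K ((DRing.restrictD φ).obj M))
  have he : (fun g : X ⟶ _ => g ≫ rhomBC φ K M) = ⇑(a.trans (b.trans (c.trans d))) := by
    funext g
    obtain ⟨g', rfl⟩ := a.symm.surjective g
    show ((baseAdj φ).homEquiv X _) g' ≫ rhomBC φ K M =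
      rhomHomEquiv X K _ ((baseAdj φ).homEquiv _ _ (baseδ φ X K ≫ b (a (a.symm g'))))
    rw [rhomBC, rhomHomEquiv_comp, Equiv.apply_symm_apply, rhomBCCore, Adjunction.homEquiv_unit, Adjunction.homEquiv_unit]
    congr 1
    have hb : b g' = tmap g' (𝟙 K') ≫ ev K' M := (rhomAdj R' K').homEquiv_counit _ _ g'
    rw [hb, Functor.map_comp, ← Category.assoc ((baseAdj φ).unit.app _), unit_baseδ, Functor.map_comp]
    simp only [Category.assoc]
    rw [← reassoc_of% (tmap_natural_resPF φ g' (𝟙 K'))]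
    show tmap _ (𝟙 K) ≫ tmap (𝟙 _) _ ≫ _ = _
    simp only [← Category.assoc, tmap_comp, CategoryTheory.Functor.map_id, Category.comp_id, Category.id_comp]
    erw [Category.comp_id]
  rw [he]
  exact (a.trans (b.trans (c.trans d))).bijective

end Groth.Agent.DTenLib
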