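import Groth.Agent.DTenLib.CoExact

/-!
# The map `RHom(L, M) ⊗ K ⟶ RHom(RHom(K, L), M)` for perfect `K`
-/

set_option autoImplicit false
set_option linter.style.haveILetI false

universe u

open CategoryTheory Limits MonoidalCategory Pretriangulated DTen
attribute [local instance] HasDerivedCategory.standard

noncomputable section

namespace Groth.Agent.DTenLib

variable {A : Type u} [CommRing A] [HasLTen A] [HasLTen₃ A] [IsSymMonoidal A] [HasRHom A]


variable (L M : Dual.D A)

/-- `symm` followed by evaluation. -/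
def evSwap (K : Dual.D A) : (LTen₂ A).obj (K, (RHomR A K).obj L) ⟶ L :=
  (symm A).app ((RHomR A K).obj L, K) ≫ ev K L

theorem evSwap_dinatural {K K' : Dual.D A} (f : K ⟶ K') :
    tmap f (𝟙 ((RHomR A K').obj L)) ≫ evSwap L K' = tmap (𝟙 K) (RHomMap f L) ≫ evSwap L K := by
  have n1 : tmap f (𝟙 ((RHomR A K').obj L)) ≫ (symm A).app ((RHomR A K').obj L, K') =
      (symm A).app ((RHomR A K').obj L, K) ≫ tmap (𝟙 _) f :=
    (symm A).naturality (Prod.mkHom (𝟙 ((RHomR A K').obj L)) f)
  have n2 : tmap (𝟙 K) (RHomMap f L) ≫ (symm A).app ((RHomR A K).obj L, K) =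
      (symm A).app ((RHomR A K').obj L, K) ≫ tmap (RHomMap f L) (𝟙 K) :=
    (symm A).naturality (Prod.mkHom (RHomMap f L) (𝟙 K))
  rw [evSwap, evSwap, ← Category.assoc, n1, ← Category.assoc, n2, Category.assoc, Category.assoc]
  exact congrArg ((symm A).app _ ≫ ·) (RHom_map_ev f L).symm

/-- `evalHom` as a natural transformation in its first variable. -/
def evalHomNat : (LTen A).obj ((RHomR A L).obj M) ⟶ dualDual L M where
  app K := evalHom K L M
  naturality {K K'} f := by
    show tmap (𝟙 ((RHomR A L).obj M)) f ≫ evalHom K' L M =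
      evalHom K L M ≫ RHomMap (RHomMap f L) M
    rw [evalHom, evalHom, homEquiv_comp, homEquiv_comp_RHomMap]
    congr 1
    rw [evalHomAux, evalHomAux, ← Category.assoc, associator_naturality, Category.assoc,
      ← tmap_id (A := A) ((RHomR A L).obj M) K, ← Category.assoc (tmap (tmap _ _) _),
      associator_naturality, Category.assoc]
    refine congrArg ((DTen.associator _ _ _).hom ≫ ·) ?_
    show tmap (𝟙 _) (tmap f (𝟙 _)) ≫ tmap (𝟙 _) (evSwap L K') ≫ ev L M =
      tmap (𝟙 _) (tmap (𝟙 K) (RHomMap f L)) ≫ tmap (𝟙 _) (evSwap L K) ≫ ev L M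
    rw [← Category.assoc, ← Category.assoc, tmap_comp, tmap_comp, evSwap_dinatural]

theorem bijective_evalHom_of_isEquivalence (K : Dual.D A) (hK : (tensorRightD A K).IsEquivalence)
    (X : Dual.D A) :
    Function.Bijective fun φ : X ⟶ (LTen₂ A).obj ((RHomR A L).obj M, K) => φ ≫ evalHom K L M := by
  haveI := hK
  haveI : IsIso (ev K L) :=
    inferInstanceAs (IsIso ((rhomAdj A K).counit.app L))
  haveI : IsIso (evSwap L K) := by
    haveI := isIso_symm_app ((RHomR A K).obj L) K
    exact IsIso.comp_isIso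
  let E := tensorRightD A K
  let Y := E.objPreimage X
  let e : E.obj Y ≅ X := E.objObjPreimageIso X
  let S := (RHomR A K).obj L
  let eS : (E.obj Y ⟶ E.obj ((RHomR A L).obj M)) ≃ (X ⟶ E.obj ((RHomR A L).obj M)) :=
    Iso.homCongr e (Iso.refl _)
  let b : (Y ⟶ (RHomR A L).obj M) ≃ (X ⟶ (LTen₂ A).obj ((RHomR A L).obj M, K)) :=
    (Functor.FullyFaithful.ofFullyFaithful E).homEquiv.trans eS
  let i : (LTen₂ A).obj ((LTen₂ A).obj (Y, K), S) ≅ (LTen₂ A).obj (Y, L) :=
    DTen.associator Y K S ≪≫ (LTen₂ A).mapIso (Iso.prod (Iso.refl Y) (asIso (evSwap L K)))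
  let c : (Y ⟶ (RHomR A L).obj M) ≃ (X ⟶ (RHomR A S).obj M) :=
    (rhomHomEquiv Y L M).symm.trans ((Iso.homCongr i.symm (Iso.refl M)).trans
      ((rhomHomEquiv ((LTen₂ A).obj (Y, K)) S M).trans (Iso.homCongr e (Iso.refl _))))
  suffices h : (fun φ : X ⟶ (LTen₂ A).obj ((RHomR A L).obj M, K) => φ ≫ evalHom K L M) ∘ ⇑b = ⇑c by
    exact (Function.Bijective.of_comp_iff _ b.bijective).1 (h ▸ c.bijective)
  funext g
  show (e.inv ≫ tmap g (𝟙 K) ≫ 𝟙 _) ≫ evalHom K L M =
    e.inv ≫ rhomHomEquiv _ S M (((DTen.associator Y K S).hom ≫ tmap (𝟙 Y) (evSwap L K)) ≫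
      (rhomHomEquiv Y L M).symm g ≫ 𝟙 M) ≫ 𝟙 _
  rw [Category.comp_id, Category.comp_id, Category.comp_id, Category.assoc]
  refine congrArg (e.inv ≫ ·) ?_
  rw [evalHom, homEquiv_comp, (rhomAdj A L).homEquiv_counit]
  congr 1
  show tmap (tmap g (𝟙 K)) (𝟙 S) ≫ (DTen.associator _ K S).hom ≫ tmap (𝟙 _) (evSwap L K) ≫ ev L M =
    ((DTen.associator Y K S).hom ≫ tmap (𝟙 Y) (evSwap L K)) ≫ tmap g (𝟙 L) ≫ ev L M
  rw [← Category.assoc, associator_naturality, tmap_id, Category.assoc, Category.assoc]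
  refine congrArg ((DTen.associator Y K S).hom ≫ ·) ?_
  rw [← Category.assoc, ← Category.assoc, tmap_comp, tmap_comp, Category.id_comp, Category.comp_id,
    Category.id_comp, Category.comp_id]

theorem bijShift_evalHom {K : Dual.D A} (hK : DRing.IsPerfect A K) (X : Dual.D A) :
    BijShift (evalHomNat L M) X K := by
  haveI := additive_tensorLeft ((RHomR A L).obj M)
  haveI := additive_dualDual L M
  exact ThickClass.of_isPerfect (P := fun K => BijShift (evalHomNat L M) X K)
    { iso := fun e h => h.of_iso e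
      retract := fun r h => h.of_retract r
      shift := fun n h => h.shift n
      middle := fun T hT h₁ h₃ => BijShift.middle _ X (homExact_tensorLeft _ X)
        (homExact_dualDual L M X) T hT h₁ h₃
      unit := fun n => bijective_evalHom_of_isEquivalence L M _ (by
        haveI := isEquivalence_shift_unit (A := A) n
        exact Functor.isEquivalence_of_iso (tensorLeftIso ((unit A)⟦n⟧)).symm) X } hK

theorem isIso_evalHom {K : Dual.D A} (hK : DRing.IsPerfect A K) : IsIso (evalHom K L M) :=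
  isIso_of_bijective _ fun X =>
    ((bijShift_evalHom L M hK X) 0).of_iso ((shiftFunctorZero (Dual.D A) ℤ).app K)

end Groth.Agent.DTenLib
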