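import Groth.Agent.DTenLib.EvalTen
import Groth.Agent.DTenLib.Generation
import Groth.Agent.DTenLib.RingCx

/-!
# The map `K ⊗ RHom(M, L) ⟶ RHom(M, K ⊗ L)` for perfect `M`
-/

set_option autoImplicit false
set_option linter.style.haveILetI false

universe u

open CategoryTheory Limits MonoidalCategory Pretriangulated DTen
attribute [local instance] HasDerivedCategory.standard

noncomputable section

namespace Groth.Agent.DTenLib

variable {A : Type u} [CommRing A] [HasLTen A]

theorem preservesCoproducts_totR (R : DRing.Cx A) (κ : Type u) :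
    PreservesColimitsOfShape (Discrete κ) (KFlat.totR (curriedTensor (ModuleCat.{u} A)) R) := by
  haveI : ∀ M, PreservesColimitsOfShape (Discrete κ) ((curriedTensor (ModuleCat.{u} A)).flip.obj M) :=
    fun M => inferInstanceAs (PreservesColimitsOfShape (Discrete κ) (tensorRight M))
  haveI := KFlat.preservesColimitsOfShape_tot (curriedTensor (ModuleCat.{u} A)).flip R (Discrete κ)
  exact preservesColimitsOfShape_of_natIso (KFlat.totRIso (curriedTensor (ModuleCat.{u} A)) R)

theorem exists_fpr_tensor_Q {Y : Dual.D A} (hY : CxCompact Y) (R : DRing.Cx A)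
    (hR : DRing.IsKFlat A R) {κ : Type u} (K : κ → DRing.Cx A)
    (f : Y ⟶ (LTen₂ A).obj (DerivedCategory.Q.obj (∐ K), DerivedCategory.Q.obj R)) :
    ∃ s : Finset κ, ∀ t, s ⊆ t →
      f ≫ tmap (DerivedCategory.Q.map (fpr K t)) (𝟙 (DerivedCategory.Q.obj R)) = f := by
  let W := KFlat.totR (curriedTensor (ModuleCat.{u} A)) R
  haveI := preservesCoproducts_totR R κ
  haveI : IsIso (sigmaComparison W K) := inferInstance
  let ι : DerivedCategory.Q ⋙ DTen.tensorRightD A (DerivedCategory.Q.obj R) ≅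
      W ⋙ DerivedCategory.Q := εRightIso R hR
  let c := DerivedCategory.Q.map (sigmaComparison W K)
  let g : Y ⟶ DerivedCategory.Q.obj (∐ fun k => W.obj (K k)) := f ≫ ι.hom.app (∐ K) ≫ inv c
  obtain ⟨s, hs⟩ := hY (fun k => W.obj (K k)) g
  refine ⟨s, fun t ht => ?_⟩
  have hf : f = g ≫ c ≫ ι.inv.app (∐ K) := by
    simp only [g, Category.assoc, IsIso.inv_hom_id_assoc, Iso.hom_inv_id_app]
    exact (Category.comp_id f).symm
  have hc : DerivedCategory.Q.map (fpr (fun k => W.obj (K k)) t) ≫ c =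
      c ≫ DerivedCategory.Q.map (W.map (fpr K t)) := by
    simp only [c, ← Functor.map_comp, map_fpr]
  have hn : DerivedCategory.Q.map (W.map (fpr K t)) ≫ ι.inv.app (∐ K) =
      ι.inv.app (∐ K) ≫ tmap (DerivedCategory.Q.map (fpr K t)) (𝟙 (DerivedCategory.Q.obj R)) :=
    ι.inv.naturality (fpr K t)
  calc f ≫ tmap (DerivedCategory.Q.map (fpr K t)) (𝟙 (DerivedCategory.Q.obj R))
      = g ≫ c ≫ ι.inv.app (∐ K) ≫
          tmap (DerivedCategory.Q.map (fpr K t)) (𝟙 (DerivedCategory.Q.obj R)) := by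
        conv_lhs => rw [hf]
        exact (Category.assoc _ _ _).trans (congrArg (g ≫ ·) (Category.assoc _ _ _))
    _ = g ≫ c ≫ DerivedCategory.Q.map (W.map (fpr K t)) ≫ ι.inv.app (∐ K) := by rw [hn]
    _ = (g ≫ DerivedCategory.Q.map (fpr (fun k => W.obj (K k)) t)) ≫ c ≫ ι.inv.app (∐ K) :=
        ((congrArg (g ≫ ·) (((Category.assoc _ _ _).symm.trans
          (congrArg (· ≫ ι.inv.app (∐ K)) hc.symm)).trans (Category.assoc _ _ _))).trans
          (Category.assoc _ _ _).symm)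
    _ = f := by rw [hs t ht, ← hf]

theorem exists_fpr_tensor {Y : Dual.D A} (hY : CxCompact Y) (R : Dual.D A) {κ : Type u}
    (K : κ → DRing.Cx A) (f : Y ⟶ (LTen₂ A).obj (DerivedCategory.Q.obj (∐ K), R)) :
    ∃ s : Finset κ, ∀ t, s ⊆ t → f ≫ tmap (DerivedCategory.Q.map (fpr K t)) (𝟙 R) = f := by
  obtain ⟨s, hs⟩ := exists_fpr_tensor_Q hY (repr R) (isKFlat_repr R) K
    (f ≫ tmap (𝟙 _) (reprIso R).inv)
  refine ⟨s, fun t ht => ?_⟩
  have h := congrArg (· ≫ tmap (𝟙 _) (reprIso R).hom) (hs t ht)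
  simp only [Category.assoc, tmap_comp, Category.id_comp, Category.comp_id, Iso.inv_hom_id,
    tmap_id] at h
  exact h

variable [HasRHom A] [HasLTen₃ A] [IsSymMonoidal A] (L M : Dual.D A)

theorem cxCompact_shift_unit_tensor (hM : DRing.IsPerfect A M) (n : ℤ) :
    CxCompact ((LTen₂ A).obj ((unit A)⟦n⟧, M)) := by
  refine CxCompact.of_iso ?_ (cxCompact_of_isPerfect hM n)
  let P := repr M
  haveI := isIso_ε_left ((𝟙_ (DRing.Cx A))⟦n⟧) P (isKFlat_unitCx_shift n)
  exact ((LTen₂ A).mapIso (Iso.prod ((DerivedCategory.Q.commShiftIso n).app _).symm (reprIso M).symm) ≪≫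
    asIso ((ε A).app ((𝟙_ (DRing.Cx A))⟦n⟧, P)) ≪≫
    DerivedCategory.Q.mapIso (CochainComplex.mapBifunctorShift₁Iso (𝟙_ (DRing.Cx A)) P
      (curriedTensor (ModuleCat.{u} A)) n ≪≫
      (CategoryTheory.shiftFunctor (DRing.Cx A) n).mapIso (λ_ P)) ≪≫
    (DerivedCategory.Q.commShiftIso n).app P ≪≫
    (CategoryTheory.shiftFunctor (Dual.D A) n).mapIso (reprIso M)).symm

theorem bijAt_sigma (hM : DRing.IsPerfect A M) (n : ℤ) {κ : Type u} (K : κ → DRing.Cx A)
    (h : ∀ k, BijAt (evalTenNat L M) ((unit A)⟦n⟧) (DerivedCategory.Q.obj (K k))) :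
    BijAt (evalTenNat L M) ((unit A)⟦n⟧) (DerivedCategory.Q.obj (∐ K)) := by
  classical
  haveI := additive_tensorRightD ((RHomR A M).obj L)
  haveI := additive_tensorRightD L
  haveI := additive_tensorRightD M
  haveI : (RHomR A M).Additive := (rhomAdj A M).right_adjoint_additive
  let X := (unit A)⟦n⟧
  let η := evalTenNat L M
  let F := tensorRightD A ((RHomR A M).obj L)
  let G := tensorRightD A L ⋙ RHomR A M
  have hX : CxCompact X := by
    obtain ⟨m, rfl⟩ : ∃ m, n = -m := ⟨-n, by omega⟩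
    exact CxCompact.of_iso (unitShiftIso m).symm (cxCompact_ringCx m)
  let π := fun k => DerivedCategory.Q.map (Sigma.π K k)
  let ι := fun k => DerivedCategory.Q.map (Sigma.ι K k)
  have hdec : ∀ (H : Dual.D A ⥤ Dual.D A) [H.Additive] (s : Finset κ),
      H.map (DerivedCategory.Q.map (fpr K s)) = ∑ k ∈ s, H.map (π k) ≫ H.map (ι k) := fun H _ s => by
    rw [fpr_eq]
    simp [π, ι, Functor.map_sum]
  constructor
  · suffices h0 : ∀ φ : X ⟶ F.obj (DerivedCategory.Q.obj (∐ K)), φ ≫ η.app _ = 0 → φ = 0 by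
      intro φ φ' hφ
      exact sub_eq_zero.1 (h0 _ (by rw [Preadditive.sub_comp]; exact sub_eq_zero.2 hφ))
    intro φ hφ
    obtain ⟨s, hs⟩ := exists_fpr_tensor hX ((RHomR A M).obj L) K φ
    have e : φ = φ ≫ F.map (DerivedCategory.Q.map (fpr K s)) := (hs s subset_rfl).symm
    rw [e, hdec, Preadditive.comp_sum]
    refine Finset.sum_eq_zero fun k _ => ?_
    have hk : φ ≫ F.map (π k) = 0 := by
      apply (h k).1
      show (φ ≫ F.map (π k)) ≫ η.app _ = 0 ≫ η.app _
      rw [Category.assoc, η.naturality, reassoc_of% hφ, zero_comp, zero_comp]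
    rw [← Category.assoc, hk, zero_comp]
  · intro φ
    obtain ⟨s, hs⟩ := exists_fpr_tensor (cxCompact_shift_unit_tensor M hM n) L K
      ((rhomHomEquiv X M _).symm φ)
    have e : φ ≫ G.map (DerivedCategory.Q.map (fpr K s)) = φ := by
      have h1 := (homEquiv_comp_map M ((rhomHomEquiv X M _).symm φ)
        (tmap (DerivedCategory.Q.map (fpr K s)) (𝟙 L))).symm
      exact ((congrArg (· ≫ (RHomR A M).map (tmap (DerivedCategory.Q.map (fpr K s)) (𝟙 L)))
        (Equiv.apply_symm_apply _ φ).symm).trans h1).trans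
          ((congrArg (rhomHomEquiv X M _) (hs s subset_rfl)).trans (Equiv.apply_symm_apply _ φ))
    choose χ hχ using fun k => (h k).2 (φ ≫ G.map (π k))
    refine ⟨∑ k ∈ s, χ k ≫ F.map (ι k), ?_⟩
    show (∑ k ∈ s, χ k ≫ F.map (ι k)) ≫ η.app _ = φ
    conv_rhs => rw [← e, hdec, Preadditive.comp_sum]
    rw [Preadditive.sum_comp]
    refine Finset.sum_congr rfl fun k _ => ?_
    rw [Category.assoc, η.naturality, ← Category.assoc]
    exact (congrArg (· ≫ G.map (ι k)) (hχ k)).trans (Category.assoc _ _ _)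

theorem isIso_evalTen_right (hM : DRing.IsPerfect A M) (K : Dual.D A) : IsIso (evalTen K L M) := by
  haveI := additive_tensorRightD ((RHomR A M).obj L)
  haveI := additive_tensorRightD L
  haveI := additive_tensorRightD M
  haveI : (RHomR A M).Additive := (rhomAdj A M).right_adjoint_additive
  have hall : ∀ n : ℤ, BijShift (evalTenNat L M) ((unit A)⟦n⟧) K := fun n => by
    have hF := homExact_tensorRight ((RHomR A M).obj L) ((unit A)⟦n⟧)
    have hG : HomExact (tensorRightD A L ⋙ RHomR A M) ((unit A)⟦n⟧) :=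
      (homExact_tensorRight L ((tensorRightD A M).obj ((unit A)⟦n⟧))).comp_rightAdjoint (rhomAdj A M)
    refine LocClass.all (P := fun K => BijShift (evalTenNat L M) ((unit A)⟦n⟧) K)
      { iso := fun e h => h.of_iso e
        retract := fun r h => h.of_retract r
        shift := fun m h => h.shift m
        middle := fun T hT h₁ h₃ => BijShift.middle _ _ hF hG T hT h₁ h₃
        unit := fun m => bijective_evalTen_of_isEquivalence L M _ (isEquivalence_shift_unit m) _
        sigma := fun {κ} Kf hK m => ?_ } K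
    refine BijAt.of_iso (DerivedCategory.Q.mapIso
        (PreservesCoproduct.iso (CategoryTheory.shiftFunctor (DRing.Cx A) m) Kf).symm ≪≫
        (DerivedCategory.Q.commShiftIso m).app _)
      (bijAt_sigma L M hM n _ fun k => (hK k m).of_iso ((DerivedCategory.Q.commShiftIso m).app _).symm)
  -- detection on shifts of the ring
  obtain ⟨C, g, d, hT⟩ := distinguished_cocone_triangle (evalTen K L M)
  refine (Triangle.isZero₃_iff_isIso₁ _ hT).1 (isZero_of_forall_eq_zero C fun n φ => ?_)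
  have hb : ∀ n : ℤ, Function.Bijective fun g : (unit A)⟦n⟧ ⟶ _ => g ≫ evalTen K L M := fun n =>
    ((hall n) 0).of_iso ((shiftFunctorZero (Dual.D A) ℤ).app K)
  let e := fun W : Dual.D A => (((shiftEquiv (Dual.D A) (1 : ℤ)).symm.toAdjunction.homEquiv
    ((unit A)⟦n⟧) W).symm)
  have hd : φ ≫ d = 0 := by
    have hd0 : d ≫ (evalTen K L M)⟦(1 : ℤ)⟧' = 0 := comp_distTriang_mor_zero₃₁ _ hT
    apply (e _).injective
    have hbn : Function.Bijective fun g : ((unit A)⟦n⟧)⟦(-1 : ℤ)⟧ ⟶ _ => g ≫ evalTen K L M := by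
      let i : (unit A)⟦n + (-1 : ℤ)⟧ ≅ ((unit A)⟦n⟧)⟦(-1 : ℤ)⟧ := (shiftFunctorAdd (Dual.D A) n (-1)).app _
      refine ⟨fun a b hab => (cancel_epi i.hom).1 ((hb (n + -1)).1 ?_), fun b => ?_⟩
      · dsimp only at hab ⊢
        rw [Category.assoc, Category.assoc, hab]
      · obtain ⟨a, ha⟩ := (hb (n + -1)).2 (i.hom ≫ b)
        exact ⟨i.inv ≫ a, by dsimp only at ha ⊢; rw [Category.assoc, ha, Iso.inv_hom_id_assoc]⟩
    apply hbn.1
    show e _ (φ ≫ d) ≫ evalTen K L M = e _ 0 ≫ evalTen K L M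
    have key : ∀ a : (unit A)⟦n⟧ ⟶ ((LTen₂ A).obj (K, (RHomR A M).obj L))⟦(1 : ℤ)⟧,
        e _ a ≫ evalTen K L M = e _ (a ≫ (evalTen K L M)⟦(1 : ℤ)⟧') := fun a =>
      ((shiftEquiv (Dual.D A) (1 : ℤ)).symm.toAdjunction.homEquiv_naturality_right_symm a
        (evalTen K L M)).symm
    refine (key (φ ≫ d)).trans ((congrArg (e _) ?_).trans (key 0).symm)
    exact ((Category.assoc _ _ _).trans ((congrArg (φ ≫ ·) hd0).trans comp_zero)).trans zero_comp.symm
  obtain ⟨ψ, hψ⟩ : ∃ ψ, φ = ψ ≫ g := Triangle.coyoneda_exact₃ _ hT φ hd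
  obtain ⟨χ, rfl⟩ := (hb n).2 ψ
  rw [hψ, Category.assoc, show evalTen K L M ≫ g = 0 from comp_distTriang_mor_zero₁₂ _ hT, comp_zero]

end Groth.Agent.DTenLib
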