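import Mathlib

/-!
# A five lemma for natural transformations of exact functors on a triangulated category

No compatibility of the transformation with the shift is needed.
-/

set_option autoImplicit false
set_option linter.style.haveILetI false

universe v u v' u'

open CategoryTheory Limits Pretriangulated

namespace Groth.Agent.DTenLib

variable {C : Type u} [Category.{v} C] [HasZeroObject C] [HasShift C ℤ] [Preadditive C]
  [∀ n : ℤ, (shiftFunctor C n).Additive] [Pretriangulated C]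
  {D : Type u'} [Category.{v'} D] [Preadditive D]

/-- `Hom(X, F -)` is exact in the middle of every distinguished triangle. -/
def HomExact (F : C ⥤ D) (X : D) : Prop :=
  ∀ T ∈ distTriang C, ∀ φ : X ⟶ F.obj T.obj₂, φ ≫ F.map T.mor₂ = 0 →
    ∃ ψ : X ⟶ F.obj T.obj₁, ψ ≫ F.map T.mor₁ = φ

variable {F G : C ⥤ D} (η : F ⟶ G) (X : D)

/-- `Hom(X, η_K)` is bijective. -/
def BijAt (K : C) : Prop := Function.Bijective fun φ : X ⟶ F.obj K => φ ≫ η.app K

theorem BijAt.of_iso {η : F ⟶ G} {X : D} {K K' : C} (e : K ≅ K') (h : BijAt η X K) : BijAt η X K' := by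
  constructor
  · intro φ φ' hφ
    have : φ ≫ F.map e.inv = φ' ≫ F.map e.inv := by
      apply h.1
      show (φ ≫ F.map e.inv) ≫ η.app K = (φ' ≫ F.map e.inv) ≫ η.app K
      rw [Category.assoc, Category.assoc, η.naturality]
      exact (Category.assoc _ _ _).symm.trans ((congrArg (· ≫ G.map e.inv) hφ).trans (Category.assoc _ _ _))
    exact (cancel_mono _).1 this
  · intro ψ
    obtain ⟨φ, hφ⟩ := h.2 (ψ ≫ G.map e.inv)
    refine ⟨φ ≫ F.map e.hom, ?_⟩
    show (φ ≫ F.map e.hom) ≫ η.app K' = ψ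
    rw [Category.assoc, η.naturality, ← Category.assoc, show φ ≫ η.app K = ψ ≫ G.map e.inv from hφ,
      Category.assoc, ← G.map_comp, e.inv_hom_id, G.map_id, Category.comp_id]

theorem BijAt.of_retract {η : F ⟶ G} {X : D} {K K' : C} (r : Retract K K') (h : BijAt η X K') :
    BijAt η X K := by
  constructor
  · intro φ φ' hφ
    have : φ ≫ F.map r.i = φ' ≫ F.map r.i := by
      apply h.1
      show (φ ≫ F.map r.i) ≫ η.app K' = (φ' ≫ F.map r.i) ≫ η.app K'
      rw [Category.assoc, Category.assoc, η.naturality]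
      exact (Category.assoc _ _ _).symm.trans ((congrArg (· ≫ G.map r.i) hφ).trans (Category.assoc _ _ _))
    have := congrArg (· ≫ F.map r.r) this
    simpa [← F.map_comp] using this
  · intro ψ
    obtain ⟨φ, hφ⟩ := h.2 (ψ ≫ G.map r.i)
    refine ⟨φ ≫ F.map r.r, ?_⟩
    show (φ ≫ F.map r.r) ≫ η.app K = ψ
    rw [Category.assoc, η.naturality, ← Category.assoc, show φ ≫ η.app K' = ψ ≫ G.map r.i from hφ,
      Category.assoc, ← G.map_comp, r.retract, G.map_id, Category.comp_id]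

variable [F.Additive] [G.Additive] (hF : HomExact F X) (hG : HomExact G X)

include hF hG in
/-- The five lemma. -/
theorem BijAt.middle (T : Triangle C) (hT : T ∈ distTriang C)
    (h₀ : BijAt η X T.invRotate.obj₁) (h₁ : BijAt η X T.obj₁) (h₃ : BijAt η X T.obj₃)
    (h₄ : BijAt η X T.rotate.obj₃) : BijAt η X T.obj₂ := by
  have z : ∀ (H : C ⥤ D) [H.Additive] (T : Triangle C), T ∈ distTriang C →
      H.map T.mor₁ ≫ H.map T.mor₂ = 0 := fun H _ T hT => by
    rw [← H.map_comp, comp_distTriang_mor_zero₁₂ T hT, H.map_zero]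
  have zr : F.map T.mor₂ ≫ F.map T.mor₃ = 0 := z F T.rotate (rot_of_distTriang T hT)
  have zr' : G.map T.mor₂ ≫ G.map T.mor₃ = 0 := z G T.rotate (rot_of_distTriang T hT)
  let g₀ : T.invRotate.obj₁ ⟶ T.obj₁ := T.invRotate.mor₁
  have zi : F.map g₀ ≫ F.map T.mor₁ = 0 :=
    z F T.invRotate (inv_rot_of_distTriang T hT)
  constructor
  · suffices h : ∀ φ : X ⟶ F.obj T.obj₂, φ ≫ η.app T.obj₂ = 0 → φ = 0 by
      intro φ φ' hφ
      exact sub_eq_zero.1 (h _ (by rw [Preadditive.sub_comp]; exact sub_eq_zero.2 hφ))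
    intro φ hφ
    have e : φ ≫ F.map T.mor₂ = 0 := by
      apply h₃.1
      show (φ ≫ F.map T.mor₂) ≫ η.app T.obj₃ = 0 ≫ η.app T.obj₃
      rw [Category.assoc, η.naturality, reassoc_of% hφ, zero_comp, zero_comp]
    obtain ⟨ψ, rfl⟩ := hF T hT φ e
    have e2 : (ψ ≫ η.app T.obj₁) ≫ G.map T.mor₁ = 0 := by
      rw [Category.assoc, ← η.naturality, ← Category.assoc]
      exact hφ
    obtain ⟨χ, hχ⟩ : ∃ χ : X ⟶ G.obj T.invRotate.obj₁, χ ≫ G.map g₀ = ψ ≫ η.app T.obj₁ :=
      hG T.invRotate (inv_rot_of_distTriang T hT) (ψ ≫ η.app T.obj₁) e2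
    obtain ⟨χ', rfl⟩ := h₀.2 χ
    have e3 : χ' ≫ F.map g₀ = ψ := by
      apply h₁.1
      show (χ' ≫ F.map g₀) ≫ η.app T.obj₁ = ψ ≫ η.app T.obj₁
      rw [← hχ, Category.assoc, η.naturality, Category.assoc]
    rw [← e3, Category.assoc, zi, comp_zero]
  · intro φ
    obtain ⟨ψ, hψ⟩ := h₃.2 (φ ≫ G.map T.mor₂)
    have hψ' : ψ ≫ η.app T.obj₃ = φ ≫ G.map T.mor₂ := hψ
    have e : ψ ≫ F.map T.mor₃ = 0 := by
      apply h₄.1
      show (ψ ≫ F.map T.mor₃) ≫ η.app (T.obj₁⟦(1 : ℤ)⟧) = 0 ≫ η.app (T.obj₁⟦(1 : ℤ)⟧)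
      rw [Category.assoc, η.naturality, reassoc_of% hψ', zr', comp_zero, zero_comp]
    obtain ⟨χ, hχ'⟩ : ∃ χ : X ⟶ F.obj T.obj₂, χ ≫ F.map T.mor₂ = ψ :=
      hF T.rotate (rot_of_distTriang T hT) ψ e
    have e2 : (φ - χ ≫ η.app T.obj₂) ≫ G.map T.mor₂ = 0 := by
      rw [Preadditive.sub_comp, Category.assoc, ← η.naturality, ← Category.assoc, hχ', hψ', sub_self]
    obtain ⟨ω, hω⟩ := hG T hT _ e2
    obtain ⟨ω', rfl⟩ := h₁.2 ω
    refine ⟨χ + ω' ≫ F.map T.mor₁, ?_⟩
    show (χ + ω' ≫ F.map T.mor₁) ≫ η.app T.obj₂ = φ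
    rw [Preadditive.add_comp, Category.assoc, η.naturality, ← Category.assoc, hω]
    abel

/-- `Hom(X, η)` is bijective at all shifts. -/
def BijShift (K : C) : Prop := ∀ n : ℤ, BijAt η X (K⟦n⟧)

theorem BijShift.of_iso {η : F ⟶ G} {X : D} {K K' : C} (e : K ≅ K') (h : BijShift η X K) :
    BijShift η X K' :=
  fun n => (h n).of_iso ((shiftFunctor C n).mapIso e)

theorem BijShift.of_retract {η : F ⟶ G} {X : D} {K K' : C} (r : Retract K K') (h : BijShift η X K') :
    BijShift η X K :=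
  fun n => (h n).of_retract (r.map (shiftFunctor C n))

theorem BijShift.shift {η : F ⟶ G} {X : D} {K : C} (h : BijShift η X K) (m : ℤ) :
    BijShift η X (K⟦m⟧) :=
  fun n => (h (m + n)).of_iso ((shiftFunctorAdd C m n).app K)

include hF hG in
theorem BijShift.middle (T : Triangle C) (hT : T ∈ distTriang C) (h₁ : BijShift η X T.obj₁)
    (h₃ : BijShift η X T.obj₃) : BijShift η X T.obj₂ := fun n =>
  BijAt.middle η X hF hG _ (Triangle.shift_distinguished T hT n)
    (((h₃.shift n) (-1))) (h₁ n) (h₃ n) ((h₁.shift n) 1)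

end Groth.Agent.DTenLib
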