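import Groth.Agent.DTenLib.Res
import Groth.Agent.DTenLib.FiveLemma
import Groth.Prelude.Def_DTen3

/-!
# Exactness of the derived tensor product in distinguished triangles
-/

set_option autoImplicit false
set_option linter.style.haveILetI false

universe u

open CategoryTheory Limits MonoidalCategory Pretriangulated CochainComplex
attribute [local instance] HasDerivedCategory.standard

noncomputable section

namespace Groth.Agent.DTenLib

variable {A : Type u} [CommRing A] [DTen.HasLTen A]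

/-- Tensoring with a K-flat complex is computed on complexes. -/
def εRightIso (R : DRing.Cx A) (hR : DRing.IsKFlat A R) :
    DerivedCategory.Q ⋙ DTen.tensorRightD A (DerivedCategory.Q.obj R) ≅
      DRing.tensorCxQ A R :=
  haveI : ∀ K, IsIso ((DTen.εRight A R).app K) := fun K => isIso_ε_right K R hR
  haveI : IsIso (DTen.εRight A R) := NatIso.isIso_of_isIso_app _
  asIso (DTen.εRight A R)

/-- Exactness of `Hom(X, - ⊗^L R)` for a K-flat complex `R`. -/
theorem homExact_tensorRight_Q (R : DRing.Cx A) (hR : DRing.IsKFlat A R) (X : Dual.D A) :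
    HomExact (DTen.tensorRightD A (DerivedCategory.Q.obj R)) X := by
  intro T hT φ hφ
  obtain ⟨K, L, f, ⟨e⟩⟩ := (DerivedCategory.mem_distTriang_iff T).1 hT
  let F := DTen.tensorRightD A (DerivedCategory.Q.obj R)
  let W := KFlat.totR (curriedTensor (ModuleCat.{u} A)) R
  let ι : DerivedCategory.Q ⋙ F ≅ W ⋙ DerivedCategory.Q := εRightIso R hR
  let S := KFlat.cylSeq f
  have hS : (S.map W).ShortExact :=
    KFlat.shortExact_totR_of_splitting (curriedTensor (ModuleCat.{u} A)) R S (KFlat.cylSplitting f)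
  have hTS := DerivedCategory.triangleOfSES_distinguished hS
  let e₁ : T.obj₁ ≅ DerivedCategory.Q.obj K := Triangle.π₁.mapIso e
  let e₂ : T.obj₂ ≅ DerivedCategory.Q.obj L := Triangle.π₂.mapIso e
  let e₃ : T.obj₃ ≅ DerivedCategory.Q.obj (mappingCone f) := Triangle.π₃.mapIso e
  let m₁ : DerivedCategory.Q.obj K ⟶ DerivedCategory.Q.obj L := DerivedCategory.Q.map f
  let m₂ : DerivedCategory.Q.obj L ⟶ DerivedCategory.Q.obj (mappingCone f) :=
    DerivedCategory.Q.map (mappingCone.inr f)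
  have c₁ : T.mor₁ ≫ e₂.hom = e₁.hom ≫ m₁ := e.hom.comm₁
  have c₂ : T.mor₂ ≫ e₃.hom = e₂.hom ≫ m₂ := e.hom.comm₂
  let ψ₀ : X ⟶ DerivedCategory.Q.obj (W.obj L) := φ ≫ F.map e₂.hom ≫ ι.hom.app L
  have h0 : ψ₀ ≫ DerivedCategory.Q.map (W.map (mappingCone.inr f)) = 0 := by
    have n := ι.hom.naturality (mappingCone.inr f)
    dsimp [ψ₀]
    rw [Category.assoc, Category.assoc, show DerivedCategory.Q.map (W.map (mappingCone.inr f)) =
      (W ⋙ DerivedCategory.Q).map (mappingCone.inr f) from rfl, ← n]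
    show φ ≫ F.map e₂.hom ≫ F.map m₂ ≫ ι.hom.app _ = 0
    rw [← F.map_comp_assoc, ← c₂, F.map_comp, Category.assoc, ← Category.assoc, hφ, zero_comp]
  let a : X ⟶ DerivedCategory.Q.obj (W.obj (L ⊞ mappingCone (𝟙 K))) :=
    ψ₀ ≫ DerivedCategory.Q.map (W.map (biprod.inl : L ⟶ L ⊞ mappingCone (𝟙 K)))
  have ha : a ≫ DerivedCategory.Q.map (W.map (biprod.desc (-mappingCone.inr f)
      (mappingCone.map (𝟙 K) f (𝟙 K) f rfl))) = 0 := by
    simp only [a, Category.assoc, ← Functor.map_comp, biprod.inl_desc, Functor.map_neg,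
      Preadditive.comp_neg, h0, neg_zero]
  obtain ⟨b, hb⟩ : ∃ b : X ⟶ DerivedCategory.Q.obj (W.obj K),
      a = b ≫ DerivedCategory.Q.map (W.map (biprod.lift f (mappingCone.inr (𝟙 K)))) :=
    Triangle.coyoneda_exact₂ _ hTS a ha
  have h1 : ψ₀ = b ≫ DerivedCategory.Q.map (W.map f) := by
    have := congrArg (· ≫ DerivedCategory.Q.map (W.map (biprod.fst : L ⊞ mappingCone (𝟙 K) ⟶ L))) hb
    simp only [a, Category.assoc, ← Functor.map_comp, biprod.inl_fst, biprod.lift_fst] at this
    rw [W.map_id, CategoryTheory.Functor.map_id, Category.comp_id] at this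
    exact this
  refine ⟨b ≫ ι.inv.app K ≫ F.map e₁.inv, ?_⟩
  show (b ≫ ι.inv.app K ≫ F.map e₁.inv) ≫ F.map T.mor₁ = φ
  have c₁' : e₁.inv ≫ T.mor₁ = m₁ ≫ e₂.inv := by
    rw [Iso.inv_comp_eq, ← Category.assoc, Iso.eq_comp_inv]; exact c₁
  have n : ι.inv.app K ≫ F.map m₁ = DerivedCategory.Q.map (W.map f) ≫ ι.inv.app L :=
    (ι.inv.naturality f).symm
  calc (b ≫ ι.inv.app K ≫ F.map e₁.inv) ≫ F.map T.mor₁
      = b ≫ (ι.inv.app K ≫ F.map m₁) ≫ F.map e₂.inv := by
        simp only [Category.assoc, ← F.map_comp, c₁']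
    _ = ψ₀ ≫ ι.inv.app L ≫ F.map e₂.inv := by rw [n, h1]; exact by simp only [Category.assoc]
    _ = φ := by
        show (φ ≫ F.map e₂.hom ≫ ι.hom.app L) ≫ ι.inv.app L ≫ F.map e₂.inv = φ
        simp only [Category.assoc]
        erw [ι.hom_inv_id_app_assoc, ← F.map_comp, e₂.hom_inv_id, F.map_id, Category.comp_id]

/-- Exactness transfers along natural isomorphisms. -/
theorem HomExact.of_iso {C : Type*} [Category C] [HasZeroObject C] [HasShift C ℤ] [Preadditive C]
    [∀ n : ℤ, (CategoryTheory.shiftFunctor C n).Additive] [Pretriangulated C] {D : Type*} [Category D] [Preadditive D]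
    {F G : C ⥤ D} (e : F ≅ G) {X : D} (h : HomExact F X) : HomExact G X := by
  intro T hT φ hφ
  obtain ⟨ψ, hψ⟩ := h T hT (φ ≫ e.inv.app _) (by
    rw [Category.assoc, ← e.inv.naturality, ← Category.assoc, hφ, zero_comp])
  refine ⟨ψ ≫ e.hom.app _, ?_⟩
  rw [Category.assoc, ← e.hom.naturality, ← Category.assoc, hψ, Category.assoc, Iso.inv_hom_id_app,
    Category.comp_id]

/-- Exactness passes through a right adjoint. -/
theorem HomExact.comp_rightAdjoint {C : Type*} [Category C] [HasZeroObject C] [HasShift C ℤ]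
    [Preadditive C] [∀ n : ℤ, (CategoryTheory.shiftFunctor C n).Additive] [Pretriangulated C]
    {D D' : Type*} [Category D] [Preadditive D] [Category D'] [Preadditive D']
    {F : C ⥤ D} {L : D' ⥤ D} {R : D ⥤ D'} (adj : L ⊣ R) [L.Additive] {X : D'}
    (h : HomExact F (L.obj X)) : HomExact (F ⋙ R) X := by
  intro T hT φ hφ
  have hφ' : φ ≫ R.map (F.map T.mor₂) = 0 := hφ
  obtain ⟨ψ, hψ⟩ := h T hT ((adj.homEquiv X _).symm φ) (by
    rw [← adj.homEquiv_naturality_right_symm, hφ', Adjunction.homEquiv_counit, L.map_zero, zero_comp])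
  refine ⟨adj.homEquiv X _ ψ, ?_⟩
  show adj.homEquiv X _ ψ ≫ R.map (F.map T.mor₁) = φ
  rw [← adj.homEquiv_naturality_right, hψ, Equiv.apply_symm_apply]

/-- Exactness of `Hom(X, - ⊗^L R)`. -/
theorem homExact_tensorRight (R : Dual.D A) (X : Dual.D A) : HomExact (DTen.tensorRightD A R) X :=
  (homExact_tensorRight_Q (repr R) (isKFlat_repr R) X).of_iso
    ((DTen.LTen A).flip.mapIso (reprIso R))

end Groth.Agent.DTenLib
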