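import Groth.Agent.DTenLib.BaseFlat
import Groth.Agent.DTenLib.Assoc
import Groth.Prelude.Def_DTen6

/-!
# Mixed derived tensor products
-/

set_option autoImplicit false
set_option linter.style.haveILetI false

universe u

open CategoryTheory Limits MonoidalCategory DTen
attribute [local instance] HasDerivedCategory.standard

noncomputable section

namespace Groth.Agent.DTenLib

open Groth.Agent.DCohLib

/-- A representative by a K-flat complex. -/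
def repr₀ {A : Type u} [CommRing A] (K : Dual.D A) : DRing.Cx A :=
  (resA A).obj (DerivedCategory.Q.objPreimage K)

theorem isKFlat_repr₀ {A : Type u} [CommRing A] (K : Dual.D A) : DRing.IsKFlat A (repr₀ K) :=
  isKFlat_resA _

/-- The isomorphism with the representative. -/
def reprIso₀ {A : Type u} [CommRing A] (K : Dual.D A) : DerivedCategory.Q.obj (repr₀ K) ≅ K :=
  @asIso _ _ _ _ _ (isIso_Q_of_quasiIso _ (quasiIso_resAπ (DerivedCategory.Q.objPreimage K))) ≪≫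
    DerivedCategory.Q.objObjPreimageIso K

section Pair

variable {R A : Type u} [CommRing R] [CommRing A] (φ : R →+* A)

theorem quasiIso_mixT_map {X Y : DRing.Cx R × DRing.Cx A} (f : X ⟶ Y) (h₁ : QuasiIso f.1)
    (h₂ : QuasiIso f.2) (hX₁ : DRing.IsKFlat R X.1) (hX₂ : DRing.IsKFlat A X.2)
    (hY₁ : DRing.IsKFlat R Y.1) (hY₂ : DRing.IsKFlat A Y.2) : QuasiIso ((mixT φ).map f) :=
  quasiIso_tensorT_map (((extCx φ).prod (𝟭 (DRing.Cx A))).map f)
    (quasiIso_extCx_map φ f.1 h₁ hX₁ hY₁) h₂ hX₂ hY₂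

theorem isKFlat_mixT {K : DRing.Cx R} {N : DRing.Cx A} (hK : DRing.IsKFlat R K)
    (hN : DRing.IsKFlat A N) : DRing.IsKFlat A ((mixT φ).obj (K, N)) :=
  isKFlat_tensor (isKFlat_extCx φ hK) hN

/-- The resolution of pairs, adapted to the mixed tensor product. -/
def adaptedMix : Adapted (qisMix R A) (mix₂ φ) where
  P := (resA R).prod (resA A)
  ψ := NatTrans.prod (resAπ R) (resAπ A)
  hψ X := ⟨(HomologicalComplex.mem_quasiIso_iff _).2 (quasiIso_resAπ X.1),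
    (HomologicalComplex.mem_quasiIso_iff _).2 (quasiIso_resAπ X.2)⟩
  inverts _ _ f hf := isIso_Q_of_quasiIso _ (quasiIso_mixT_map φ _
    (quasiIso_resA_map _ ((HomologicalComplex.mem_quasiIso_iff _).1 hf.1))
    (quasiIso_resA_map _ ((HomologicalComplex.mem_quasiIso_iff _).1 hf.2))
    (isKFlat_resA _) (isKFlat_resA _) (isKFlat_resA _) (isKFlat_resA _))
  isIso_map X := isIso_Q_of_quasiIso _ (quasiIso_mixT_map φ _ (quasiIso_resAπ ((resA R).obj X.1))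
    (quasiIso_resAπ ((resA A).obj X.2)) (isKFlat_resA _) (isKFlat_resA _) (isKFlat_resA _) (isKFlat_resA _))

variable [HasLTenMix φ]

theorem isIso_εMix (K : DRing.Cx R) (N : DRing.Cx A) (hK : DRing.IsKFlat R K) (hN : DRing.IsKFlat A N) :
    IsIso ((εMix φ).app (K, N)) :=
  (adaptedMix φ).isIso_app (QMix R A) (LTenMix φ) (εMix φ) (K, N)
    (isIso_Q_of_quasiIso _ (quasiIso_mixT_map φ _ (quasiIso_resAπ K) (quasiIso_resAπ N)
      (isKFlat_resA K) (isKFlat_resA N) hK hN))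

theorem isIso_split_app [HasLTen A] [HasLBase φ] (E : Dual.D R) (N : Dual.D A) :
    IsIso ((split φ).app (E, N)) := by
  let P := repr₀ E
  let S := repr₀ N
  let e : (QMix R A).obj (P, S) ≅ (E, N) := Iso.prod (reprIso₀ E) (reprIso₀ N)
  refine (NatTrans.isIso_app_iff_of_iso _ e).1 ?_
  haveI := isIso_εMix φ P S (isKFlat_repr₀ _) (isKFlat_repr₀ _)
  haveI := isIso_baseCmp_app φ P (isKFlat_repr₀ _)
  haveI : IsIso (Prod.mkHom ((baseCmp φ).app P) (𝟙 (DerivedCategory.Q.obj S))) :=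
    (Iso.prod (@asIso _ _ _ _ _ ‹IsIso ((baseCmp φ).app P)›) (Iso.refl _)).isIso_hom
  haveI h : IsIso ((splitβ φ).app (P, S)) :=
    IsIso.comp_isIso' (Functor.map_isIso _ _) (isIso_ε_right ((extCx φ).obj P) S (isKFlat_repr₀ _))
  exact IsIso.of_isIso_fac_right (split_fac φ (P, S))

end Pair

section Triple

variable {A B C : Type u} [CommRing A] [CommRing B] [CommRing C] (φ : A →+* B) (ψ : B →+* C)

theorem isIso_mix₃_map {X Y : DRing.Cx A × (DRing.Cx B × DRing.Cx C)} (f : X ⟶ Y)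
    (h₁ : QuasiIso f.1) (h₂ : QuasiIso f.2.1) (h₃ : QuasiIso f.2.2)
    (hX₁ : DRing.IsKFlat A X.1) (hX₂ : DRing.IsKFlat B X.2.1) (hX₃ : DRing.IsKFlat C X.2.2)
    (hY₁ : DRing.IsKFlat A Y.1) (hY₂ : DRing.IsKFlat B Y.2.1) (hY₃ : DRing.IsKFlat C Y.2.2) :
    IsIso ((mix₃ φ ψ).map f) :=
  isIso_Q_of_quasiIso _ (quasiIso_mixT_map ψ
    (Prod.mkHom ((mixT φ).map (Prod.mkHom f.1 f.2.1)) f.2.2)
    (quasiIso_mixT_map φ (X := (X.1, X.2.1)) (Y := (Y.1, Y.2.1)) (Prod.mkHom f.1 f.2.1) h₁ h₂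
      hX₁ hX₂ hY₁ hY₂) h₃
    (isKFlat_mixT φ hX₁ hX₂) hX₃ (isKFlat_mixT φ hY₁ hY₂) hY₃)

/-- The resolution of triples, adapted to the iterated mixed tensor product. -/
def adaptedMix₃ : Adapted (qisMix₃ A B C) (mix₃ φ ψ) where
  P := (resA A).prod ((resA B).prod (resA C))
  ψ := NatTrans.prod (resAπ A) (NatTrans.prod (resAπ B) (resAπ C))
  hψ X := ⟨(HomologicalComplex.mem_quasiIso_iff _).2 (quasiIso_resAπ X.1),
    (HomologicalComplex.mem_quasiIso_iff _).2 (quasiIso_resAπ X.2.1),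
    (HomologicalComplex.mem_quasiIso_iff _).2 (quasiIso_resAπ X.2.2)⟩
  inverts _ _ f hf := isIso_mix₃_map φ ψ _
    (quasiIso_resA_map _ ((HomologicalComplex.mem_quasiIso_iff _).1 hf.1))
    (quasiIso_resA_map _ ((HomologicalComplex.mem_quasiIso_iff _).1 hf.2.1))
    (quasiIso_resA_map _ ((HomologicalComplex.mem_quasiIso_iff _).1 hf.2.2))
    (isKFlat_resA _) (isKFlat_resA _) (isKFlat_resA _) (isKFlat_resA _) (isKFlat_resA _) (isKFlat_resA _)
  isIso_map X := isIso_mix₃_map φ ψ _ (quasiIso_resAπ ((resA A).obj X.1))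
    (quasiIso_resAπ ((resA B).obj X.2.1)) (quasiIso_resAπ ((resA C).obj X.2.2))
    (isKFlat_resA _) (isKFlat_resA _) (isKFlat_resA _) (isKFlat_resA _) (isKFlat_resA _) (isKFlat_resA _)

variable [HasLTenMix₃ φ ψ]

theorem isIso_εMix₃ (M : DRing.Cx A) (N : DRing.Cx B) (K : DRing.Cx C) (hM : DRing.IsKFlat A M)
    (hN : DRing.IsKFlat B N) (hK : DRing.IsKFlat C K) : IsIso ((εMix₃ φ ψ).app (M, (N, K))) :=
  (adaptedMix₃ φ ψ).isIso_app (QMix₃ A B C) (LTenMix₃ φ ψ) (εMix₃ φ ψ) (M, (N, K))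
    (isIso_mix₃_map φ ψ _ (quasiIso_resAπ M) (quasiIso_resAπ N) (quasiIso_resAπ K)
      (isKFlat_resA M) (isKFlat_resA N) (isKFlat_resA K) hM hN hK)

variable [HasLTenMix ψ]

theorem isIso_leg₃L_app [HasLTenMix φ] (E : Dual.D A) (F : Dual.D B) (G : Dual.D C) :
    IsIso ((leg₃L φ ψ).app (E, (F, G))) := by
  let X : DRing.Cx A × (DRing.Cx B × DRing.Cx C) := (repr₀ E, (repr₀ F, repr₀ G))
  let e : (QMix₃ A B C).obj X ≅ (E, (F, G)) :=
    Iso.prod (reprIso₀ E) (Iso.prod (reprIso₀ F) (reprIso₀ G))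
  refine (NatTrans.isIso_app_iff_of_iso _ e).1 ?_
  haveI := isIso_εMix₃ φ ψ (repr₀ E) (repr₀ F) (repr₀ G) (isKFlat_repr₀ _) (isKFlat_repr₀ _) (isKFlat_repr₀ _)
  haveI h₁ := isIso_εMix φ (repr₀ E) (repr₀ F) (isKFlat_repr₀ _) (isKFlat_repr₀ _)
  haveI h₂ := isIso_εMix ψ ((mixT φ).obj (repr₀ E, repr₀ F)) (repr₀ G)
    (isKFlat_mixT φ (isKFlat_repr₀ _) (isKFlat_repr₀ _)) (isKFlat_repr₀ _)
  haveI : IsIso (Prod.mkHom ((εMix φ).app (repr₀ E, repr₀ F)) (𝟙 (DerivedCategory.Q.obj (repr₀ G)))) :=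
    (Iso.prod (@asIso _ _ _ _ _ h₁) (Iso.refl _)).isIso_hom
  haveI h₃ : IsIso ((LTenMix ψ).map
      (Prod.mkHom ((εMix φ).app (repr₀ E, repr₀ F)) (𝟙 (DerivedCategory.Q.obj (repr₀ G))))) :=
    inferInstance
  haveI : IsIso ((β₃L φ ψ).app X) := IsIso.comp_isIso' h₃ h₂
  exact IsIso.of_isIso_fac_right (leg₃L_fac φ ψ X)

theorem isIso_leg₃R_app [HasLTenMix (ψ.comp φ)] (E : Dual.D A) (F : Dual.D B) (G : Dual.D C) :
    IsIso ((leg₃R φ ψ).app (E, (F, G))) := by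
  let X : DRing.Cx A × (DRing.Cx B × DRing.Cx C) := (repr₀ E, (repr₀ F, repr₀ G))
  let e : (QMix₃ A B C).obj X ≅ (E, (F, G)) :=
    Iso.prod (reprIso₀ E) (Iso.prod (reprIso₀ F) (reprIso₀ G))
  refine (NatTrans.isIso_app_iff_of_iso _ e).1 ?_
  haveI := isIso_εMix₃ φ ψ (repr₀ E) (repr₀ F) (repr₀ G) (isKFlat_repr₀ _) (isKFlat_repr₀ _) (isKFlat_repr₀ _)
  haveI h₁ := isIso_εMix ψ (repr₀ F) (repr₀ G) (isKFlat_repr₀ _) (isKFlat_repr₀ _)
  haveI h₂ := isIso_εMix (ψ.comp φ) (repr₀ E) ((mixT ψ).obj (repr₀ F, repr₀ G)) (isKFlat_repr₀ _)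
    (isKFlat_mixT ψ (isKFlat_repr₀ _) (isKFlat_repr₀ _))
  haveI : IsIso (Prod.mkHom (𝟙 (DerivedCategory.Q.obj (repr₀ E))) ((εMix ψ).app (repr₀ F, repr₀ G))) :=
    (Iso.prod (Iso.refl _) (@asIso _ _ _ _ _ h₁)).isIso_hom
  haveI h₃ : IsIso ((LTenMix (ψ.comp φ)).map
      (Prod.mkHom (𝟙 (DerivedCategory.Q.obj (repr₀ E))) ((εMix ψ).app (repr₀ F, repr₀ G)))) :=
    inferInstance
  haveI : IsIso ((β₃R φ ψ).app X) :=
    IsIso.comp_isIso' h₃ (IsIso.comp_isIso' h₂ inferInstance)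
  exact IsIso.of_isIso_fac_right (leg₃R_fac φ ψ X)

end Triple

end Groth.Agent.DTenLib
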